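import Mathlib.RingTheory.TensorProduct.IsBaseChangeHom
import Mathlib.Algebra.Azumaya.Basic
import Mathlib.Algebra.Module.FinitePresentation
import Mathlib.RingTheory.Finiteness.Projective
import Mathlib.RingTheory.Nakayama

/-!
# Azumaya algebras: base change (helper11)

* `EM R S M : S ⊗ End_R M → End_S (S ⊗ M)`, bijective for `M` finite projective (`EM_bijective`).
* `mulLeftRight_baseChange_bijective_iff`: for `A` finite projective over `R`, the Azumaya map of
  `S ⊗ A` over `S` is bijective iff the base change of the Azumaya map of `A` is.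
* `one_mem_trace`: a faithful finite projective module has trace ideal `⊤`.
* `faithfulSMul_baseChange`: so its base change is faithful.
* `isAzumaya_baseChange`.
-/

set_option autoImplicit false

open TensorProduct

namespace Groth.Agent.Lib.Helper11.Azumaya

section EM

variable (R : Type*) [CommRing R] (S : Type*) [CommRing S] [Algebra R S]
    (M : Type*) [AddCommGroup M] [Module R M]

/-- The canonical map `S ⊗ End_R M → End_S (S ⊗ M)`. -/
noncomputable def EM : S ⊗[R] (M →ₗ[R] M) →ₗ[S] (S ⊗[R] M →ₗ[S] S ⊗[R] M) :=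
  LinearMap.liftBaseChange S (LinearMap.baseChangeHom R S M M)

theorem EM_tmul (c : S) (f : M →ₗ[R] M) : EM R S M (c ⊗ₜ f) = c • f.baseChange S := rfl

theorem EM_bijective_of_free (ι : Type*) [Finite ι] :
    Function.Bijective (EM R S (ι → R)) := by
  have h := Module.isBaseChange_map_of_finite_free (R := R) (ι → R) S ι
  have : (EM R S (ι → R) : S ⊗[R] ((ι → R) →ₗ[R] (ι → R)) → _) = h.equiv := by
    funext x
    induction x using TensorProduct.induction_on with
    | zero => simp
    | add x y hx hy => simp only [map_add, hx, hy]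
    | tmul c f => rw [EM_tmul, IsBaseChange.equiv_tmul]; rfl
  rw [this]
  exact h.equiv.bijective

variable {R M} in
/-- conjugation `φ ↦ g ∘ φ ∘ f` as a linear map -/
def conj {N : Type*} [AddCommGroup N] [Module R N] (f : N →ₗ[R] M) (g : M →ₗ[R] N) :
    (M →ₗ[R] M) →ₗ[R] (N →ₗ[R] N) where
  toFun φ := g ∘ₗ φ ∘ₗ f
  map_add' φ ψ := by ext; simp
  map_smul' c φ := by ext; simp

theorem EM_conj {N : Type*} [AddCommGroup N] [Module R N] (f : N →ₗ[R] M) (g : M →ₗ[R] N)
    (x : S ⊗[R] (M →ₗ[R] M)) :
    EM R S N ((conj f g).baseChange S x) = g.baseChange S ∘ₗ (EM R S M x) ∘ₗ f.baseChange S := by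
  induction x using TensorProduct.induction_on with
  | zero => simp
  | add x y hx hy => simp only [map_add, hx, hy, LinearMap.add_comp, LinearMap.comp_add]
  | tmul c φ =>
    rw [LinearMap.baseChange_tmul, EM_tmul, EM_tmul]
    change c • (g ∘ₗ φ ∘ₗ f).baseChange S = _
    rw [LinearMap.baseChange_comp, LinearMap.baseChange_comp, LinearMap.smul_comp,
      LinearMap.comp_smul]

theorem EM_bijective [Module.Finite R M] [Module.Projective R M] :
    Function.Bijective (EM R S M) := by
  obtain ⟨n, f, g, -, -, hfg⟩ := Module.Finite.exists_comp_eq_id_of_projective R M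
  have hF := EM_bijective_of_free R S (Fin n)
  have hfgS : f.baseChange S ∘ₗ g.baseChange S = LinearMap.id := by
    rw [← LinearMap.baseChange_comp, hfg, LinearMap.baseChange_id]
  have hri : (conj g f) ∘ₗ (conj f g) = (LinearMap.id : (M →ₗ[R] M) →ₗ[R] (M →ₗ[R] M)) := by
    ext φ x
    change f (g (φ (f (g x)))) = φ x
    have h1 : ∀ y, f (g y) = y := fun y => LinearMap.congr_fun hfg y
    rw [h1, h1]
  have hriS : ∀ x, (conj g f).baseChange S ((conj f g).baseChange S x) = x := by
    intro x
    rw [← LinearMap.comp_apply, ← LinearMap.baseChange_comp, hri, LinearMap.baseChange_id,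
      LinearMap.id_apply]
  constructor
  · rw [injective_iff_map_eq_zero]
    intro x hx
    have h1 : EM R S (Fin n → R) ((conj f g).baseChange S x) = 0 := by
      rw [EM_conj, hx, LinearMap.zero_comp, LinearMap.comp_zero]
    have h2 : (conj f g).baseChange S x = 0 := hF.1 (by rw [h1, map_zero])
    rw [← hriS x, h2, map_zero]
  · intro y
    obtain ⟨z, hz⟩ := hF.2 (g.baseChange S ∘ₗ y ∘ₗ f.baseChange S)
    refine ⟨(conj g f).baseChange S z, ?_⟩
    rw [EM_conj, hz]
    have : f.baseChange S ∘ₗ (g.baseChange S ∘ₗ y ∘ₗ f.baseChange S) ∘ₗ g.baseChange S =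
        (f.baseChange S ∘ₗ g.baseChange S) ∘ₗ y ∘ₗ (f.baseChange S ∘ₗ g.baseChange S) := by
      simp only [LinearMap.comp_assoc]
    rw [this, hfgS, LinearMap.id_comp, LinearMap.comp_id]

end EM

section theta

variable {R : Type*} [CommRing R] (S : Type*) [CommRing S] [Algebra R S]
    (A : Type*) [Ring A] [Algebra R A]

/-- `S ⊗ Aᵐᵒᵖ ≃ (S ⊗ A)ᵐᵒᵖ` -/
noncomputable def eOp : S ⊗[R] Aᵐᵒᵖ ≃ₗ[S] (S ⊗[R] A)ᵐᵒᵖ :=
  (LinearEquiv.baseChange R S _ _ (MulOpposite.opLinearEquiv R (M := A)).symm) ≪≫ₗ
    MulOpposite.opLinearEquiv S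

noncomputable def theta :
    S ⊗[R] (A ⊗[R] Aᵐᵒᵖ) ≃ₗ[S] (S ⊗[R] A) ⊗[S] (S ⊗[R] A)ᵐᵒᵖ :=
  TensorProduct.AlgebraTensorModule.distribBaseChange R S A Aᵐᵒᵖ ≪≫ₗ
    TensorProduct.congr (LinearEquiv.refl S _) (eOp S A)

theorem theta_tmul (c : S) (a : A) (b : Aᵐᵒᵖ) :
    theta S A (c ⊗ₜ (a ⊗ₜ b)) = (c ⊗ₜ[R] a) ⊗ₜ[S] MulOpposite.op ((1 : S) ⊗ₜ[R] b.unop) := rfl

theorem key (z : S ⊗[R] (A ⊗[R] Aᵐᵒᵖ)) :
    (AlgHom.mulLeftRight S (S ⊗[R] A)) (theta S A z) =
      EM R S A ((AlgHom.mulLeftRight R A).toLinearMap.baseChange S z) := by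
  induction z using TensorProduct.induction_on with
  | zero => simp
  | add x y hx hy => simp only [map_add, hx, hy]
  | tmul c t =>
    induction t using TensorProduct.induction_on with
    | zero => simp
    | add x y hx hy => simp only [TensorProduct.tmul_add, map_add, hx, hy]
    | tmul a b =>
      rw [theta_tmul, LinearMap.baseChange_tmul, EM_tmul]
      refine LinearMap.ext fun x => ?_
      induction x using TensorProduct.induction_on with
      | zero => simp
      | add x y hx hy => simp only [map_add, hx, hy]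
      | tmul c' y =>
        rw [AlgHom.mulLeftRight_apply, LinearMap.smul_apply, LinearMap.baseChange_tmul,
          AlgHom.toLinearMap_apply, AlgHom.mulLeftRight_apply, MulOpposite.unop_op,
          Algebra.TensorProduct.tmul_mul_tmul, Algebra.TensorProduct.tmul_mul_tmul,
          TensorProduct.smul_tmul', smul_eq_mul, mul_one]

/-- Base change compatibility of the Azumaya map for a finite projective algebra. -/
theorem mulLeftRight_baseChange_bijective_iff [Module.Finite R A] [Module.Projective R A] :
    Function.Bijective (AlgHom.mulLeftRight S (S ⊗[R] A)) ↔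
      Function.Bijective ((AlgHom.mulLeftRight R A).toLinearMap.baseChange S) := by
  have hfun : (AlgHom.mulLeftRight S (S ⊗[R] A)) ∘ (theta S A) =
      (EM R S A) ∘ ((AlgHom.mulLeftRight R A).toLinearMap.baseChange S) := funext (key S A)
  rw [← Function.Bijective.of_comp_iff _ (theta S A).bijective, hfun,
    Function.Bijective.of_comp_iff' (EM_bijective R S A)]

end theta

section trace

variable {R : Type*} [CommRing R] (M : Type*) [AddCommGroup M] [Module R M]

/-- A faithful finite projective module has trace ideal `⊤`. -/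
theorem one_mem_trace [Module.Finite R M] [Module.Projective R M] [FaithfulSMul R M] :
    (1 : R) ∈ Ideal.span {t : R | ∃ (f : M →ₗ[R] R) (a : M), f a = t} := by
  set T : Ideal R := Ideal.span {t : R | ∃ (f : M →ₗ[R] R) (a : M), f a = t} with hT
  obtain ⟨s, hs⟩ := Module.projective_def'.mp (inferInstance : Module.Projective R M)
  have hle : (⊤ : Submodule R M) ≤ T • ⊤ := by
    intro a _
    have ha : a = Finsupp.linearCombination R id (s a) := by
      have := LinearMap.congr_fun hs a
      simpa using this.symm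
    rw [ha, Finsupp.linearCombination_apply, Finsupp.sum]
    refine Submodule.sum_mem _ fun b _ => ?_
    refine Submodule.smul_mem_smul ?_ Submodule.mem_top
    exact Ideal.subset_span ⟨(Finsupp.lapply b) ∘ₗ s, a, rfl⟩
  obtain ⟨r, hr1, hr0⟩ :=
    Submodule.exists_sub_one_mem_and_smul_eq_zero_of_fg_of_le_smul T ⊤ Module.Finite.fg_top hle
  have hr : r = 0 := by
    apply FaithfulSMul.eq_of_smul_eq_smul (α := M)
    intro a
    rw [hr0 a Submodule.mem_top, zero_smul]
  rw [hr, zero_sub] at hr1
  simpa using T.neg_mem hr1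

variable {M} in
theorem faithfulSMul_baseChange (S : Type*) [CommRing S] [Algebra R S]
    [Module.Finite R M] [Module.Projective R M] [FaithfulSMul R M] :
    FaithfulSMul S (S ⊗[R] M) := by
  refine ⟨fun {s₁ s₂} h => ?_⟩
  have h0 : ∀ x : S ⊗[R] M, (s₁ - s₂) • x = 0 := fun x =>
    (sub_smul s₁ s₂ x).trans (sub_eq_zero.mpr (h x))
  have key : ∀ t ∈ Ideal.span {t : R | ∃ (f : M →ₗ[R] R) (a : M), f a = t},
      (s₁ - s₂) * algebraMap R S t = 0 := by
    intro t ht
    induction ht using Submodule.span_induction with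
    | mem t ht =>
      obtain ⟨f, a, rfl⟩ := ht
      have h1 := h0 ((1 : S) ⊗ₜ[R] a)
      have h2 := congrArg ((TensorProduct.AlgebraTensorModule.rid R S S).toLinearMap ∘ₗ
        f.baseChange S) h1
      simpa [Algebra.smul_def, mul_comm] using h2
    | zero => simp
    | add x y _ _ hx hy => rw [map_add, mul_add, hx, hy, add_zero]
    | smul c x _ hx => rw [smul_eq_mul, map_mul, mul_left_comm, hx, mul_zero]
  have := key 1 (one_mem_trace M)
  rw [map_one, mul_one] at this
  exact sub_eq_zero.mp this

end trace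

section main

variable (R : Type*) [CommRing R] (S : Type*) [CommRing S] [Algebra R S]
    (A : Type*) [Ring A] [Algebra R A]

/-- Base change of an Azumaya algebra is Azumaya. -/
theorem isAzumaya_baseChange [IsAzumaya R A] : IsAzumaya S (S ⊗[R] A) := by
  have h1 : Function.Bijective ((AlgHom.mulLeftRight R A).toLinearMap.baseChange S) :=
    ((LinearEquiv.ofBijective (AlgHom.mulLeftRight R A).toLinearMap
      (IsAzumaya.bij (R := R) (A := A))).baseChange R S _ _).bijective
  have h2 := (mulLeftRight_baseChange_bijective_iff S A).mpr h1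
  have hfaith : FaithfulSMul S (S ⊗[R] A) := faithfulSMul_baseChange S
  exact { bij := h2 }

end main

end Groth.Agent.Lib.Helper11.Azumaya
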