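import Groth.Agent.Lib.Helper11.Azumaya
import Mathlib.LinearAlgebra.Contraction
import Mathlib.Algebra.Azumaya.Matrix
import Mathlib.RingTheory.LocalProperties.Exactness
import Mathlib.RingTheory.Localization.BaseChange
import Mathlib.RingTheory.LocalRing.Module
import Mathlib.LinearAlgebra.Matrix.ToLin

/-!
# `End_R(P)` is Azumaya for `P` faithful finite projective (helper11)
-/

set_option autoImplicit false

open TensorProduct

namespace Groth.Agent.Lib.Helper11.Azumaya

section localCheck

variable {R : Type*} [CommRing R] {M N : Type*} [AddCommGroup M] [Module R M]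
    [AddCommGroup N] [Module R N]

/-- A linear map is bijective if all its base changes to the localizations at maximal ideals are. -/
theorem bijective_of_baseChange_localization (F : M →ₗ[R] N)
    (H : ∀ (m : Ideal R) [m.IsMaximal],
      Function.Bijective (F.baseChange (Localization.AtPrime m))) :
    Function.Bijective F := by
  have hM : ∀ (m : Ideal R) [m.IsMaximal], IsLocalizedModule.AtPrime m
      (TensorProduct.mk R (Localization.AtPrime m) M 1) := fun m _ =>
    (isLocalizedModule_iff_isBaseChange m.primeCompl (Localization.AtPrime m) _).mpr
      (TensorProduct.isBaseChange R M _)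
  have hN : ∀ (m : Ideal R) [m.IsMaximal], IsLocalizedModule.AtPrime m
      (TensorProduct.mk R (Localization.AtPrime m) N 1) := fun m _ =>
    (isLocalizedModule_iff_isBaseChange m.primeCompl (Localization.AtPrime m) _).mpr
      (TensorProduct.isBaseChange R N _)
  refine bijective_of_isLocalized_maximal
    (fun m _ => Localization.AtPrime m ⊗[R] M)
    (fun m _ => TensorProduct.mk R (Localization.AtPrime m) M 1)
    (fun m _ => Localization.AtPrime m ⊗[R] N)
    (fun m _ => TensorProduct.mk R (Localization.AtPrime m) N 1) F ?_
  intro m _
  have hm := hM m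
  have hn := hN m
  have heq : IsLocalizedModule.map m.primeCompl
      (TensorProduct.mk R (Localization.AtPrime m) M 1)
      (TensorProduct.mk R (Localization.AtPrime m) N 1) F =
      (F.baseChange (Localization.AtPrime m)).restrictScalars R := by
    apply IsLocalizedModule.ext m.primeCompl (TensorProduct.mk R (Localization.AtPrime m) M 1)
      (IsLocalizedModule.map_units (TensorProduct.mk R (Localization.AtPrime m) N 1))
    ext x
    exact IsLocalizedModule.map_apply m.primeCompl
      (TensorProduct.mk R (Localization.AtPrime m) M 1)
      (TensorProduct.mk R (Localization.AtPrime m) N 1) F x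
  rw [heq]
  exact H m

end localCheck

section EndAz

variable (R : Type*) [CommRing R] (P : Type*) [AddCommGroup P] [Module R P]
  [Module.Finite R P] [Module.Projective R P]

theorem finite_end : Module.Finite R (Module.End R P) :=
  Module.Finite.equiv (dualTensorHomEquiv R P P)

theorem projective_end : Module.Projective R (Module.End R P) :=
  Module.Projective.of_equiv (dualTensorHomEquiv R P P)

omit [Module.Finite R P] [Module.Projective R P] in
theorem faithful_end [FaithfulSMul R P] : FaithfulSMul R (Module.End R P) := by
  refine ⟨fun {r₁ r₂} h => ?_⟩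
  apply FaithfulSMul.eq_of_smul_eq_smul (α := P)
  intro p
  have := LinearMap.congr_fun (h (1 : Module.End R P)) p
  simpa using this

/-- `S ⊗ End_R P ≃ₐ End_S (S ⊗ P)` for `P` finite projective. -/
noncomputable def endBaseChangeAlgEquiv (S : Type*) [CommRing S] [Algebra R S] :
    S ⊗[R] Module.End R P ≃ₐ[S] Module.End S (S ⊗[R] P) :=
  AlgEquiv.ofBijective (AlgHom.liftEquiv R S _ _ (Module.End.baseChangeHom R S P)) (by
    have : ((AlgHom.liftEquiv R S _ _ (Module.End.baseChangeHom R S P)) :
        S ⊗[R] Module.End R P → Module.End S (S ⊗[R] P)) = EM R S P := by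
      funext x
      induction x using TensorProduct.induction_on with
      | zero => simp
      | add x y hx hy => simp only [map_add, hx, hy]
      | tmul c f => rw [AlgHom.liftEquiv_tmul, EM_tmul]; rfl
    rw [this]
    exact EM_bijective R S P)

/-- Endomorphism algebra of a nontrivial finite free module is Azumaya. -/
theorem isAzumaya_end_of_free (S : Type*) [CommRing S] (Q : Type*) [AddCommGroup Q] [Module S Q]
    [Module.Finite S Q] [Module.Free S Q] [Nontrivial Q] : IsAzumaya S (Module.End S Q) := by
  classical
  let b := Module.Free.chooseBasis S Q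
  have : Nonempty (Module.Free.ChooseBasisIndex S Q) := by
    by_contra hne
    rw [not_nonempty_iff] at hne
    have : Subsingleton Q := (b.repr.toEquiv.subsingleton_congr).mpr inferInstance
    exact not_subsingleton Q this
  have hM : IsAzumaya S (Matrix (Module.Free.ChooseBasisIndex S Q)
      (Module.Free.ChooseBasisIndex S Q) S) := IsAzumaya.matrix S _
  exact IsAzumaya.of_AlgEquiv S _ _ (algEquivMatrix b).symm

/-- Local case: over a local base `S`, `S ⊗ End_R P` is Azumaya. -/
theorem isAzumaya_baseChange_end_of_local (S : Type*) [CommRing S] [IsLocalRing S] [Algebra R S]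
    [FaithfulSMul R P] : IsAzumaya S (S ⊗[R] Module.End R P) := by
  have hflat : Module.Flat S (S ⊗[R] P) := inferInstance
  have hfree : Module.Free S (S ⊗[R] P) := Module.free_of_flat_of_isLocalRing
  have hf : FaithfulSMul S (S ⊗[R] P) := faithfulSMul_baseChange S
  have hnt : Nontrivial (S ⊗[R] P) := by
    by_contra hns
    rw [not_nontrivial_iff_subsingleton] at hns
    have : (1 : S) = 0 :=
      FaithfulSMul.eq_of_smul_eq_smul (α := S ⊗[R] P) fun x => Subsingleton.elim _ _
    exact one_ne_zero this
  have h1 : IsAzumaya S (Module.End S (S ⊗[R] P)) := isAzumaya_end_of_free _ _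
  have e : @AlgEquiv S (Module.End S (S ⊗[R] P)) (S ⊗[R] Module.End R P) _ Ring.toSemiring
      Ring.toSemiring _ _ := (endBaseChangeAlgEquiv R P S).symm
  exact IsAzumaya.of_AlgEquiv S (Module.End S (S ⊗[R] P)) (S ⊗[R] Module.End R P) e

/-- `End_R(P)` is Azumaya for `P` faithful finite projective. -/
theorem isAzumaya_end [FaithfulSMul R P] : IsAzumaya R (Module.End R P) := by
  have hfin := finite_end R P
  have hproj := projective_end R P
  have hfaith := faithful_end R P
  have hbij : Function.Bijective (AlgHom.mulLeftRight R (Module.End R P)) := by
    have : Function.Bijective (AlgHom.mulLeftRight R (Module.End R P)).toLinearMap := by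
      apply bijective_of_baseChange_localization
      intro m _
      rw [← mulLeftRight_baseChange_bijective_iff]
      exact (isAzumaya_baseChange_end_of_local R P (Localization.AtPrime m)).bij
    exact this
  exact { bij := hbij }

end EndAz

end Groth.Agent.Lib.Helper11.Azumaya
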