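import Groth.Agent.Lib.Helper11.Azumaya
import Mathlib.LinearAlgebra.Contraction

/-!
# Tensor product of Azumaya algebras is Azumaya (helper11)
-/

set_option autoImplicit false

open TensorProduct

namespace Groth.Agent.Lib.Helper11.Azumaya

section tensor

variable (R : Type*) [CommRing R] (A : Type*) [Ring A] [Algebra R A]
    (B : Type*) [Ring B] [Algebra R B]

/-- `Aᵐᵒᵖ ⊗ Bᵐᵒᵖ ≃ (A ⊗ B)ᵐᵒᵖ` -/
noncomputable def eOp2 : Aᵐᵒᵖ ⊗[R] Bᵐᵒᵖ ≃ₗ[R] (A ⊗[R] B)ᵐᵒᵖ :=
  TensorProduct.congr (MulOpposite.opLinearEquiv R (M := A)).symm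
    (MulOpposite.opLinearEquiv R (M := B)).symm ≪≫ₗ MulOpposite.opLinearEquiv R

/-- `(A ⊗ Aᵐᵒᵖ) ⊗ (B ⊗ Bᵐᵒᵖ) ≃ (A ⊗ B) ⊗ (A ⊗ B)ᵐᵒᵖ` -/
noncomputable def theta2 :
    (A ⊗[R] Aᵐᵒᵖ) ⊗[R] (B ⊗[R] Bᵐᵒᵖ) ≃ₗ[R] (A ⊗[R] B) ⊗[R] (A ⊗[R] B)ᵐᵒᵖ :=
  TensorProduct.tensorTensorTensorComm R A Aᵐᵒᵖ B Bᵐᵒᵖ ≪≫ₗ
    TensorProduct.congr (LinearEquiv.refl R _) (eOp2 R A B)

theorem theta2_tmul (a : A) (a' : Aᵐᵒᵖ) (b : B) (b' : Bᵐᵒᵖ) :
    theta2 R A B ((a ⊗ₜ a') ⊗ₜ (b ⊗ₜ b')) =
      (a ⊗ₜ[R] b) ⊗ₜ[R] MulOpposite.op (a'.unop ⊗ₜ[R] b'.unop) := rfl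

theorem key2 (z : (A ⊗[R] Aᵐᵒᵖ) ⊗[R] (B ⊗[R] Bᵐᵒᵖ)) :
    (AlgHom.mulLeftRight R (A ⊗[R] B)) (theta2 R A B z) =
      TensorProduct.homTensorHomMap (.id R) A B A B
        (TensorProduct.map (AlgHom.mulLeftRight R A).toLinearMap
          (AlgHom.mulLeftRight R B).toLinearMap z) := by
  induction z using TensorProduct.induction_on with
  | zero => simp
  | add x y hx hy => simp only [map_add, hx, hy]
  | tmul s t =>
    induction s using TensorProduct.induction_on with
    | zero => simp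
    | add x y hx hy => simp only [TensorProduct.add_tmul, map_add, hx, hy]
    | tmul a a' =>
      induction t using TensorProduct.induction_on with
      | zero => simp
      | add x y hx hy => simp only [TensorProduct.tmul_add, map_add, hx, hy]
      | tmul b b' =>
        rw [theta2_tmul, TensorProduct.map_tmul, TensorProduct.homTensorHomMap_apply]
        refine TensorProduct.ext' fun x y => ?_
        rw [AlgHom.mulLeftRight_apply, MulOpposite.unop_op, TensorProduct.map_tmul,
          AlgHom.toLinearMap_apply, AlgHom.toLinearMap_apply, AlgHom.mulLeftRight_apply,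
          AlgHom.mulLeftRight_apply, Algebra.TensorProduct.tmul_mul_tmul,
          Algebra.TensorProduct.tmul_mul_tmul]

theorem faithfulSMul_tensor
    [Module.Finite R A] [Module.Projective R A] [FaithfulSMul R A]
    [Module.Finite R B] [Module.Projective R B] [FaithfulSMul R B] :
    FaithfulSMul R (A ⊗[R] B) := by
  refine ⟨fun {r₁ r₂} h => ?_⟩
  have h0 : ∀ x : A ⊗[R] B, (r₁ - r₂) • x = 0 := fun x =>
    (sub_smul r₁ r₂ x).trans (sub_eq_zero.mpr (h x))
  have key : ∀ t ∈ Ideal.span {t : R | ∃ (f : A →ₗ[R] R) (a : A), f a = t},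
      ∀ t' ∈ Ideal.span {t : R | ∃ (g : B →ₗ[R] R) (b : B), g b = t}, (r₁ - r₂) * (t * t') = 0 := by
    intro t ht
    induction ht using Submodule.span_induction with
    | mem t ht =>
      obtain ⟨f, a, rfl⟩ := ht
      intro t' ht'
      induction ht' using Submodule.span_induction with
      | mem t' ht' =>
        obtain ⟨g, b, rfl⟩ := ht'
        have h1 := h0 (a ⊗ₜ[R] b)
        have h2 := congrArg ((TensorProduct.lid R R).toLinearMap ∘ₗ TensorProduct.map f g) h1
        simpa using h2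
      | zero => simp
      | add x y _ _ hx hy => rw [mul_add, mul_add, hx, hy, add_zero]
      | smul c x _ hx => rw [smul_eq_mul, mul_left_comm (f a), mul_left_comm, hx, mul_zero]
    | zero => intro t' _; simp
    | add x y _ _ hx hy => intro t' ht'; rw [add_mul, mul_add, hx t' ht', hy t' ht', add_zero]
    | smul c x _ hx =>
      intro t' ht'
      rw [smul_eq_mul, mul_assoc, mul_left_comm, hx t' ht', mul_zero]
  have := key 1 (one_mem_trace A) 1 (one_mem_trace B)
  rw [mul_one, mul_one] at this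
  exact sub_eq_zero.mp this

/-- The tensor product of two Azumaya algebras is Azumaya. -/
theorem isAzumaya_tensor [IsAzumaya R A] [IsAzumaya R B] : IsAzumaya R (A ⊗[R] B) := by
  have hA : Function.Bijective (AlgHom.mulLeftRight R A).toLinearMap :=
    IsAzumaya.bij (R := R) (A := A)
  have hB : Function.Bijective (AlgHom.mulLeftRight R B).toLinearMap :=
    IsAzumaya.bij (R := R) (A := B)
  have hmap : Function.Bijective (TensorProduct.map (AlgHom.mulLeftRight R A).toLinearMap
      (AlgHom.mulLeftRight R B).toLinearMap) :=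
    (TensorProduct.congr (LinearEquiv.ofBijective _ hA) (LinearEquiv.ofBijective _ hB)).bijective
  have hH : Function.Bijective (TensorProduct.homTensorHomMap (.id R) A B A B) := by
    have : (TensorProduct.homTensorHomMap (.id R) A B A B :
        (A →ₗ[R] A) ⊗[R] (B →ₗ[R] B) → _) = homTensorHomEquiv R A B A B := by
      funext x; exact (homTensorHomEquiv_apply x).symm
    rw [this]
    exact (homTensorHomEquiv R A B A B).bijective
  have hfun : (AlgHom.mulLeftRight R (A ⊗[R] B)) ∘ (theta2 R A B) =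
      (TensorProduct.homTensorHomMap (.id R) A B A B) ∘
        (TensorProduct.map (AlgHom.mulLeftRight R A).toLinearMap
          (AlgHom.mulLeftRight R B).toLinearMap) := funext (key2 R A B)
  have hbij : Function.Bijective (AlgHom.mulLeftRight R (A ⊗[R] B)) := by
    rw [← Function.Bijective.of_comp_iff _ (theta2 R A B).bijective, hfun]
    exact hH.comp hmap
  have hfaith : FaithfulSMul R (A ⊗[R] B) := faithfulSMul_tensor R A B
  exact { bij := hbij }

end tensor

end Groth.Agent.Lib.Helper11.Azumaya
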