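import Groth.Agent.Lib.Helper56.CMRing
import Groth.Agent.Lib.Helper56.DepthAss
import Groth.Agent.Lib.Helper67.CM
import Mathlib.AlgebraicGeometry.AffineScheme

/-!
# Localizations of Cohen–Macaulay local rings, and stalks of schemes
-/

set_option autoImplicit false
universe u
open LocCoh CategoryTheory AlgebraicGeometry

namespace Groth.Agent.Lib.Helper11.CMLocalize

/-- every localization at a prime of a Cohen–Macaulay local ring is Cohen–Macaulay -/
theorem localization_CM (R : Type u) [CommRing R] [hR : IsCohenMacaulayLocalRing R]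
    (p : Ideal R) [hp : p.IsPrime] : IsCohenMacaulayLocalRing (Localization.AtPrime p) := by
  have hM : IsCohenMacaulayModule R R := hR.supportDim_eq_depth
  have hsupp : (⟨p, hp⟩ : PrimeSpectrum R) ∈ Module.support R R := by
    rw [Module.support_eq_zeroLocus, Module.annihilator_eq_bot.mpr inferInstance]
    simp
  have h := Groth.Agent.Lib.Helper67.isCohenMacaulayModule_localization R hM ⟨p, hp⟩ hsupp
  change Module.supportDim (Localization.AtPrime p) (LocalizedModule p.primeCompl R) = _ at h
  rw [Groth.Agent.Lib.Helper56.supportDim_localizedModule_self,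
    Groth.Agent.Lib.Helper56.depth_localizedModule_self] at h
  have hN : IsNoetherianRing (Localization.AtPrime p) :=
    IsLocalization.isNoetherianRing p.primeCompl _ inferInstance
  exact { supportDim_eq_depth := h }

/-- if `R_m` is Cohen–Macaulay and `p ≤ m` then `R_p` is Cohen–Macaulay -/
theorem isCohenMacaulayLocalRing_atPrime_of_le (R : Type u) [CommRing R] (m : Ideal R) [m.IsPrime]
    [IsCohenMacaulayLocalRing (Localization.AtPrime m)] (p : Ideal R) [hp : p.IsPrime]
    (hpm : p ≤ m) : IsCohenMacaulayLocalRing (Localization.AtPrime p) := by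
  have hdisj : Disjoint (m.primeCompl : Set R) (p : Set R) := by
    rw [Set.disjoint_left]
    intro x hx hxp
    exact hx (hpm hxp)
  have hq : (p.map (algebraMap R (Localization.AtPrime m))).IsPrime :=
    IsLocalization.isPrime_of_isPrime_disjoint m.primeCompl _ p hp hdisj
  have hcomap : (p.map (algebraMap R (Localization.AtPrime m))).comap
      (algebraMap R (Localization.AtPrime m)) = p :=
    IsLocalization.under_map_of_isPrime_disjoint m.primeCompl _ hp hdisj
  have h1 : IsCohenMacaulayLocalRing
      (Localization.AtPrime (p.map (algebraMap R (Localization.AtPrime m)))) :=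
    localization_CM _ _
  have key : ∀ (I : Ideal R) [I.IsPrime],
      I = (p.map (algebraMap R (Localization.AtPrime m))).comap
        (algebraMap R (Localization.AtPrime m)) →
      IsCohenMacaulayLocalRing (Localization.AtPrime I) := by
    intro I _ hI
    subst hI
    exact Groth.Agent.Lib.Helper56.isCohenMacaulayLocalRing_of_ringEquiv
      (IsLocalization.localizationLocalizationAtPrimeIsoLocalization m.primeCompl
        (p.map (algebraMap R (Localization.AtPrime m)))).symm.toRingEquiv h1
  exact key p hcomap.symm

/-- Cohen–Macaulayness of the stalk at a point of an affine open vs localization at the prime -/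
theorem stalk_CM_iff {X : Scheme.{u}} {U : X.Opens} (hU : IsAffineOpen U) (x : X) (hx : x ∈ U) :
    IsCohenMacaulayLocalRing (X.presheaf.stalk x) ↔
      IsCohenMacaulayLocalRing (Localization.AtPrime (hU.primeIdealOf ⟨x, hx⟩).asIdeal) := by
  let _ : Algebra Γ(X, U) (X.presheaf.stalk x) :=
    TopCat.Presheaf.algebra_section_stalk X.presheaf (⟨x, hx⟩ : U)
  have hloc : IsLocalization.AtPrime (X.presheaf.stalk x) (hU.primeIdealOf ⟨x, hx⟩).asIdeal :=
    hU.isLocalization_stalk ⟨x, hx⟩
  let e : Localization.AtPrime (hU.primeIdealOf ⟨x, hx⟩).asIdeal ≃ₐ[Γ(X, U)] X.presheaf.stalk x :=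
    IsLocalization.algEquiv (hU.primeIdealOf ⟨x, hx⟩).asIdeal.primeCompl _ _
  exact ⟨fun h => Groth.Agent.Lib.Helper56.isCohenMacaulayLocalRing_of_ringEquiv
      e.symm.toRingEquiv h,
    fun h => Groth.Agent.Lib.Helper56.isCohenMacaulayLocalRing_of_ringEquiv e.toRingEquiv h⟩

end Groth.Agent.Lib.Helper11.CMLocalize
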