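import Groth.Agent.Lib.Helper56.DepthAss
import Mathlib

/-!
# Associated primes of a Cohen–Macaulay ring are minimal

* `mem_minimalPrimes_of_mem_associatedPrimes`: for a CM ring `A` (prelude `LocCoh.IsCohenMacaulayRing`)
  every associated prime of `A` is a minimal prime.
* `mem_minimalPrimes_of_mem_associatedPrimes_quotient`: for an ideal `𝔠` of a Noetherian ring `R`
  with `R ⧸ 𝔠` CM, every `P ∈ Ass_R(R ⧸ 𝔠)` is minimal over `𝔠`.
* `exists_mem_minimalPrimes_colon_le`: if `x ∉ 𝔠` then `𝔠 : x` is contained in a minimal prime of `𝔠`.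
-/

set_option autoImplicit false
universe u

namespace Groth.Agent.Lib.Helper11.CMUnmixed

open LocCoh

theorem mem_minimalPrimes_of_mem_associatedPrimes (A : Type u) [CommRing A]
    [LocCoh.IsCohenMacaulayRing A] {p : Ideal A} (hp : p ∈ associatedPrimes A A) :
    p ∈ minimalPrimes A := by
  have hpp : p.IsPrime := IsAssociatedPrime.isPrime hp
  have h0 : depth (Localization.AtPrime p) (LocalizedModule p.primeCompl A) = 0 :=
    Groth.Agent.Lib.Helper56.depth_localizedModule_eq_zero_of_mem_associatedPrimes hp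
  rw [Groth.Agent.Lib.Helper56.depth_localizedModule_self] at h0
  have hCM : LocCoh.IsCohenMacaulayLocalRing (Localization.AtPrime p) :=
    LocCoh.IsCohenMacaulayRing.isCohenMacaulayLocalRing_localization p
  have h1 := hCM.supportDim_eq_depth
  rw [h0, Module.supportDim_self_eq_ringKrullDim,
    IsLocalization.AtPrime.ringKrullDim_eq_height p] at h1
  have h2 : p.height = 0 := by exact_mod_cast h1
  exact Ideal.height_eq_zero_iff.mp h2

theorem mem_minimalPrimes_of_mem_associatedPrimes_quotient {R : Type u} [CommRing R]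
    [IsNoetherianRing R] (𝔠 : Ideal R) [LocCoh.IsCohenMacaulayRing (R ⧸ 𝔠)] {P : Ideal R}
    (hP : P ∈ associatedPrimes R (R ⧸ 𝔠)) : P ∈ 𝔠.minimalPrimes := by
  obtain ⟨hPp, y, hy⟩ := isAssociatedPrime_iff.mp hP
  have hcP : 𝔠 ≤ P := by
    intro r hr
    rw [hy, Submodule.mem_colon_singleton, Submodule.mem_bot]
    obtain ⟨y', rfl⟩ := Ideal.Quotient.mk_surjective y
    change Ideal.Quotient.mk 𝔠 (r * y') = 0
    rw [Ideal.Quotient.eq_zero_iff_mem]
    exact 𝔠.mul_mem_right _ hr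
  have hker : RingHom.ker (Ideal.Quotient.mk 𝔠) ≤ P := by rw [Ideal.mk_ker (I := 𝔠)]; exact hcP
  have hPbar : (P.map (Ideal.Quotient.mk 𝔠)).IsPrime :=
    Ideal.map_isPrime_of_surjective Ideal.Quotient.mk_surjective hker
  have hcomap : (P.map (Ideal.Quotient.mk 𝔠)).comap (Ideal.Quotient.mk 𝔠) = P := by
    rw [Ideal.comap_map_of_surjective' _ Ideal.Quotient.mk_surjective P, sup_eq_left.mpr hker]
  have hass : P.map (Ideal.Quotient.mk 𝔠) ∈ associatedPrimes (R ⧸ 𝔠) (R ⧸ 𝔠) := by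
    refine isAssociatedPrime_iff.mpr ⟨hPbar, y, ?_⟩
    ext a
    obtain ⟨r, rfl⟩ := Ideal.Quotient.mk_surjective a
    rw [Submodule.mem_colon_singleton, Submodule.mem_bot,
      Ideal.mem_map_iff_of_surjective _ Ideal.Quotient.mk_surjective]
    constructor
    · rintro ⟨r', hr', hrr'⟩
      rw [← hrr']
      rw [hy, Submodule.mem_colon_singleton, Submodule.mem_bot] at hr'
      exact hr'
    · intro h
      refine ⟨r, ?_, rfl⟩
      rw [hy, Submodule.mem_colon_singleton, Submodule.mem_bot]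
      exact h
  have hmin := mem_minimalPrimes_of_mem_associatedPrimes (R ⧸ 𝔠) hass
  rw [Ideal.minimalPrimes_eq_comap]
  exact ⟨_, hmin, hcomap⟩

theorem exists_mem_minimalPrimes_colon_le {R : Type u} [CommRing R]
    [IsNoetherianRing R] (𝔠 : Ideal R) [LocCoh.IsCohenMacaulayRing (R ⧸ 𝔠)] {x : R} (hx : x ∉ 𝔠) :
    ∃ P ∈ 𝔠.minimalPrimes, 𝔠.colon {x} ≤ P := by
  have hx0 : (Ideal.Quotient.mk 𝔠 x) ≠ 0 := by rwa [Ne, Ideal.Quotient.eq_zero_iff_mem]
  obtain ⟨P, hP, hle⟩ := exists_le_isAssociatedPrime_of_isNoetherianRing R _ hx0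
  refine ⟨P, mem_minimalPrimes_of_mem_associatedPrimes_quotient 𝔠 hP, fun r hr => hle ?_⟩
  rw [Submodule.mem_colon_singleton, Submodule.mem_bot]
  change Ideal.Quotient.mk 𝔠 (r * x) = 0
  rw [Ideal.Quotient.eq_zero_iff_mem]
  rwa [Submodule.mem_colon_singleton] at hr

end Groth.Agent.Lib.Helper11.CMUnmixed
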