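import Mathlib

/-!
# Closed points of locally Noetherian schemes (Stacks 02IL)

Every point of a locally Noetherian scheme specializes to a closed point.
-/

set_option autoImplicit false
universe u
open CategoryTheory AlgebraicGeometry TopologicalSpace Topology

namespace Groth.Agent.Lib.Helper11.ClosedPoint

/-- A Noetherian domain in which some nonzero element lies in every nonzero prime has all its
nonzero primes maximal. -/
theorem isMaximal_of_forall_mem {D : Type*} [CommRing D] [IsDomain D] [IsNoetherianRing D]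
    (f : D) (hf : f ≠ 0) (H : ∀ P : Ideal D, P.IsPrime → P ≠ ⊥ → f ∈ P)
    (P : Ideal D) [hP : P.IsPrime] (hP0 : P ≠ ⊥) : P.IsMaximal := by
  classical
  by_contra hmax
  obtain ⟨M, hM, hPM⟩ := Ideal.exists_le_maximal P hP.ne_top
  have hPltM : P < M := lt_of_le_of_ne hPM (fun h => hmax (h ▸ hM))
  have hfP : f ∈ P := H P hP hP0
  have hfin : (Ideal.span {f}).minimalPrimes.Finite :=
    Ideal.finite_minimalPrimes_of_isNoetherianRing D _
  obtain ⟨P₀, hP₀, hP₀P⟩ := Ideal.exists_minimalPrimes_le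
    (show Ideal.span {f} ≤ P from (Ideal.span_singleton_le_iff_mem _).mpr hfP)
  -- an element of `M` outside all minimal primes over `f`
  have hnot : ¬ ((M : Set D) ⊆ ⋃ i ∈ (hfin.toFinset : Set (Ideal D)), (i : Set D)) := by
    intro hsub
    rw [Ideal.subset_union_prime (f := fun i : Ideal D => i) ⊥ ⊥
      (fun i hi _ _ => ((Set.Finite.mem_toFinset hfin).mp hi).1.1)] at hsub
    obtain ⟨P₁, hP₁, hMP₁⟩ := hsub
    have hP₁' := (Set.Finite.mem_toFinset hfin).mp hP₁
    have h1 : P₁ ≤ P := hP₁'.2 ⟨hP, (Ideal.span_singleton_le_iff_mem _).mpr hfP⟩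
      (hPM.trans hMP₁)
    exact absurd (hMP₁.trans h1) (not_le_of_gt hPltM)
  obtain ⟨g, hgM, hg⟩ := Set.not_subset.mp hnot
  have hg0 : g ≠ 0 := by
    rintro rfl
    apply hg
    simp only [Set.mem_iUnion, SetLike.mem_coe, exists_prop]
    exact ⟨P₀, (Set.Finite.mem_toFinset hfin).mpr hP₀, P₀.zero_mem⟩
  have hMprime : M.IsPrime := hM.isPrime
  obtain ⟨Q, hQ, hQM⟩ := Ideal.exists_minimalPrimes_le
    (show Ideal.span {g} ≤ M from (Ideal.span_singleton_le_iff_mem _).mpr hgM)
  have hQprime : Q.IsPrime := hQ.1.1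
  have hgQ : g ∈ Q := (Ideal.span_singleton_le_iff_mem _).mp hQ.1.2
  have hQh : Q.height ≤ 1 := Ideal.height_le_one_of_isPrincipal_of_mem_minimalPrimes _ Q hQ
  have hQ0 : Q ≠ ⊥ := fun h => hg0 (by rw [h] at hgQ; exact hgQ)
  have hfQ : f ∈ Q := H Q hQprime hQ0
  obtain ⟨P₂, hP₂, hP₂Q⟩ := Ideal.exists_minimalPrimes_le
    (show Ideal.span {f} ≤ Q from (Ideal.span_singleton_le_iff_mem _).mpr hfQ)
  have hP₂prime : P₂.IsPrime := hP₂.1.1
  have hfP₂ : f ∈ P₂ := (Ideal.span_singleton_le_iff_mem _).mp hP₂.1.2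
  have hP₂0 : P₂ ≠ ⊥ := fun h => hf (by rw [h] at hfP₂; exact hfP₂)
  have hP₂eq : P₂ = Q := by
    by_contra hne
    have hlt : P₂ < Q := lt_of_le_of_ne hP₂Q hne
    have h1 : P₂.height < Q.height := Ideal.height_strict_mono_of_isPrime hlt
    have h2 : P₂.height = 0 := by
      have : P₂.height < 1 := lt_of_lt_of_le h1 hQh
      exact Order.lt_one_iff.mp this
    exact hP₂0 (Ideal.height_eq_zero_iff_eq_bot.mp h2)
  apply hg
  simp only [Set.mem_iUnion, SetLike.mem_coe, exists_prop]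
  exact ⟨P₂, (Set.Finite.mem_toFinset hfin).mpr hP₂, hP₂eq ▸ hgQ⟩

/-- relative version: in a Noetherian ring, if some `f ∉ q` lies in every prime strictly above
the prime `q`, then every prime strictly above `q` is maximal. -/
theorem isMaximal_of_lt {B : Type*} [CommRing B] [IsNoetherianRing B] (q : Ideal B) [hq : q.IsPrime]
    (f : B) (hfq : f ∉ q) (H : ∀ P : Ideal B, P.IsPrime → q < P → f ∈ P)
    (P : Ideal B) [hP : P.IsPrime] (hqP : q < P) : P.IsMaximal := by
  let π := Ideal.Quotient.mk q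
  have hπ : Function.Surjective π := Ideal.Quotient.mk_surjective
  have hker : RingHom.ker π = q := Ideal.mk_ker
  have hkerP : RingHom.ker π ≤ P := hker.le.trans hqP.le
  have hP' : (P.map π).IsPrime := Ideal.map_isPrime_of_surjective hπ hkerP
  have hP'0 : P.map π ≠ ⊥ := by
    intro h
    rw [Ideal.map_eq_bot_iff_le_ker, hker] at h
    exact absurd h (not_le_of_gt hqP)
  have hf0 : π f ≠ 0 := fun h => hfq (Ideal.Quotient.eq_zero_iff_mem.mp h)
  have hH : ∀ Q' : Ideal (B ⧸ q), Q'.IsPrime → Q' ≠ ⊥ → π f ∈ Q' := by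
    intro Q' hQ' hQ'0
    have hQ : (Q'.comap π).IsPrime := Ideal.comap_isPrime π Q'
    have hle : q ≤ Q'.comap π :=
      hker.ge.trans ((RingHom.ker_eq_comap_bot π).le.trans (Ideal.comap_mono bot_le))
    have hne : q ≠ Q'.comap π := by
      intro h
      apply hQ'0
      have h1 : Q' = Ideal.map π q := by
        conv_lhs => rw [← Ideal.map_comap_of_surjective π hπ Q', ← h]
      rw [h1]
      exact Ideal.map_quotient_self q
    exact H _ hQ (lt_of_le_of_ne hle hne)
  have hmax : (P.map π).IsMaximal := isMaximal_of_forall_mem (π f) hf0 hH (P.map π) hP'0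
  have hcomap : (P.map π).comap π = P := by
    rw [Ideal.comap_map_of_surjective π hπ, ← RingHom.ker_eq_comap_bot]
    exact sup_eq_left.mpr hkerP
  rw [← hcomap]
  exact Ideal.comap_isMaximal_of_surjective π hπ

/-- **Stacks 02IL**: every point of a locally Noetherian scheme specializes to a closed point. -/
theorem exists_specializes_isClosed (X : Scheme.{u}) [IsLocallyNoetherian X] (x : X) :
    ∃ y : X, x ⤳ y ∧ IsClosed ({y} : Set X) := by
  -- an affine neighbourhood of `x`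
  obtain ⟨_, ⟨U₀, hU, rfl⟩, hxU, -⟩ := X.isBasis_affineOpens.exists_subset_of_mem_open
    (Set.mem_univ x) isOpen_univ
  obtain ⟨U, rfl⟩ : ∃ U : X.Opens, U = U₀ := ⟨U₀, rfl⟩
  have hι : IsOpenEmbedding hU.fromSpec := hU.fromSpec.isOpenEmbedding
  have hrange : Set.range hU.fromSpec = (U : Set X) := hU.range_fromSpec
  obtain ⟨x', rfl⟩ : ∃ x', hU.fromSpec x' = x := by
    have : x ∈ Set.range hU.fromSpec := by rw [hrange]; exact hxU
    exact this
  obtain ⟨m, hm, hxm⟩ := Ideal.exists_le_maximal x'.asIdeal x'.2.ne_top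
  let y₀' : PrimeSpectrum Γ(X, U) := ⟨m, hm.isPrime⟩
  obtain ⟨y₀, hy₀⟩ : ∃ y₀ : X, y₀ = hU.fromSpec y₀' := ⟨_, rfl⟩
  have hxy₀ : hU.fromSpec x' ⤳ y₀ := by
    rw [hy₀]
    exact hι.isInducing.specializes_iff.mpr ((PrimeSpectrum.le_iff_specializes x' y₀').mp hxm)
  have hy₀mem : y₀ ∈ (U : Set X) := by
    rw [← hrange, hy₀]
    exact ⟨y₀', rfl⟩
  -- `y₀` is closed in `U`
  have hy₀U : ∀ w ∈ (U : Set X), y₀ ⤳ w → w = y₀ := by
    intro w hw hyw
    obtain ⟨w', rfl⟩ : ∃ w', hU.fromSpec w' = w := by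
      have : w ∈ Set.range hU.fromSpec := by rw [hrange]; exact hw
      exact this
    rw [hy₀] at hyw ⊢
    have h1 : y₀' ⤳ w' := hι.isInducing.specializes_iff.mp hyw
    have hle : m ≤ w'.asIdeal := (PrimeSpectrum.le_iff_specializes y₀' w').mpr h1
    have h2 : m = w'.asIdeal := hm.eq_of_le w'.2.ne_top hle
    exact congrArg hU.fromSpec (PrimeSpectrum.ext h2.symm)
  have hclosed_of : ∀ y : X, (∀ w, y ⤳ w → w = y) → IsClosed ({y} : Set X) := by
    intro y hy
    rw [← closure_eq_iff_isClosed]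
    ext w
    rw [← specializes_iff_mem_closure, Set.mem_singleton_iff]
    exact ⟨hy w, fun h => h ▸ specializes_rfl⟩
  by_cases hcl : ∀ w, y₀ ⤳ w → w = y₀
  · exact ⟨y₀, hxy₀, hclosed_of y₀ hcl⟩
  · push Not at hcl
    obtain ⟨z, hy₀z, hzne⟩ := hcl
    refine ⟨z, hxy₀.trans hy₀z, hclosed_of z ?_⟩
    intro w hzw
    obtain ⟨_, ⟨W₀, hW, rfl⟩, hwW, -⟩ := X.isBasis_affineOpens.exists_subset_of_mem_open
      (Set.mem_univ w) isOpen_univ
    obtain ⟨W, rfl⟩ : ∃ W : X.Opens, W = W₀ := ⟨W₀, rfl⟩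
    have hκ : IsOpenEmbedding hW.fromSpec := hW.fromSpec.isOpenEmbedding
    have hrangeW : Set.range hW.fromSpec = (W : Set X) := hW.range_fromSpec
    have hzW : z ∈ (W : Set X) := hzw.mem_open W.2 hwW
    have hy₀W : y₀ ∈ (W : Set X) := hy₀z.mem_open W.2 hzW
    obtain ⟨w', rfl⟩ : ∃ w', hW.fromSpec w' = w := by
      have : w ∈ Set.range hW.fromSpec := by rw [hrangeW]; exact hwW
      exact this
    obtain ⟨z', rfl⟩ : ∃ z', hW.fromSpec z' = z := by
      have : z ∈ Set.range hW.fromSpec := by rw [hrangeW]; exact hzW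
      exact this
    obtain ⟨q, hq⟩ : ∃ q, hW.fromSpec q = y₀ := by
      have : y₀ ∈ Set.range hW.fromSpec := by rw [hrangeW]; exact hy₀W
      exact this
    have hqz : q.asIdeal ≤ z'.asIdeal := by
      have h1 : q ⤳ z' := by
        apply hκ.isInducing.specializes_iff.mp
        rw [hq]
        exact hy₀z
      exact (PrimeSpectrum.le_iff_specializes (q : PrimeSpectrum Γ(X, W)) z').mpr h1
    have hzw' : z'.asIdeal ≤ w'.asIdeal :=
      (PrimeSpectrum.le_iff_specializes (z' : PrimeSpectrum Γ(X, W)) w').mpr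
        (hκ.isInducing.specializes_iff.mp hzw)
    have hqne : q ≠ z' := fun h => hzne (by rw [← h, hq])
    have hO : IsOpen (hW.fromSpec ⁻¹' (U : Set X)) := U.2.preimage hW.fromSpec.continuous
    have hqO : q ∈ hW.fromSpec ⁻¹' (U : Set X) := by
      change hW.fromSpec q ∈ (U : Set X)
      rw [hq]
      exact hy₀mem
    obtain ⟨_, ⟨f, rfl⟩, hqf, hfO⟩ :=
      PrimeSpectrum.isTopologicalBasis_basic_opens.exists_subset_of_mem_open hqO hO
    have H : ∀ P : Ideal Γ(X, W), P.IsPrime → q.asIdeal < P → f ∈ P := by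
      intro P hP hlt
      by_contra hfP
      let P' : PrimeSpectrum Γ(X, W) := ⟨P, hP⟩
      have hPO : hW.fromSpec P' ∈ (U : Set X) := hfO (show P' ∈ PrimeSpectrum.basicOpen f from hfP)
      have hsp : y₀ ⤳ hW.fromSpec P' := by
        rw [← hq]
        exact hκ.isInducing.specializes_iff.mpr
          ((PrimeSpectrum.le_iff_specializes q P').mp hlt.le)
      have h1 := hy₀U _ hPO hsp
      have h2 : P' = q := hκ.injective (h1.trans hq.symm)
      exact hlt.ne (congrArg PrimeSpectrum.asIdeal h2).symm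
    have hN : IsNoetherianRing Γ(X, W) := IsLocallyNoetherian.component_noetherian ⟨W, hW⟩
    have hlt : q.asIdeal < z'.asIdeal :=
      lt_of_le_of_ne hqz (fun h => hqne (PrimeSpectrum.ext h))
    have hmax : z'.asIdeal.IsMaximal := isMaximal_of_lt q.asIdeal f hqf H z'.asIdeal hlt
    have h3 : z'.asIdeal = w'.asIdeal := hmax.eq_of_le w'.2.ne_top hzw'
    exact congrArg hW.fromSpec (PrimeSpectrum.ext h3.symm)

end Groth.Agent.Lib.Helper11.ClosedPoint
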