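import Mathlib

/-!
# Krull intersection on the spectrum of a Noetherian local ring (helper11)

* `isIso_of_isClosedImmersion_of_forall_lift`: a closed immersion into `Spec R` (`R` Noetherian local)
  through which all `Spec (R/J^(n+1))` factor (`J` a proper ideal) is an isomorphism.
* `isClosedImmersion_of_closedPoint_mem_range`: an immersion into `Spec R` (`R` local) whose range
  contains the closed point is a closed immersion.
* `hom_ext_of_forall_quotient_pow`: two morphisms `Spec R ⟶ Y` agreeing on all `Spec (R/J^(n+1))` are equal.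
-/

set_option autoImplicit false
universe u
open CategoryTheory AlgebraicGeometry Limits

namespace Groth.Agent.Lib.Helper11.KrullSpec

theorem isIso_of_isClosedImmersion_of_forall_lift {R : Type u} [CommRing R] [IsLocalRing R]
    [IsNoetherianRing R] (J : Ideal R) (hJ : J ≠ ⊤) {E : Scheme.{u}}
    (ι : E ⟶ Spec (CommRingCat.of R)) [IsClosedImmersion ι]
    (h : ∀ n : ℕ, ∃ g : Spec (CommRingCat.of (R ⧸ J ^ (n + 1))) ⟶ E,
      g ≫ ι = Spec.map (CommRingCat.ofHom (Ideal.Quotient.mk (J ^ (n + 1))))) :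
    IsIso ι := by
  obtain ⟨hE, hsurj⟩ := IsClosedImmersion.isAffine_surjective_of_isAffine ι
  have hinj : Function.Injective ι.appTop := by
    rw [injective_iff_map_eq_zero]
    intro k hk
    have hmem : ∀ n : ℕ, (Scheme.ΓSpecIso (CommRingCat.of R)).hom k ∈ J ^ (n + 1) := by
      intro n
      obtain ⟨g, hg⟩ := h n
      have h1 : (Spec.map (CommRingCat.ofHom (Ideal.Quotient.mk (J ^ (n + 1))))).appTop k = 0 := by
        rw [← hg, Scheme.Hom.comp_appTop]
        simp [hk]
      have h2 := Scheme.ΓSpecIso_naturality (CommRingCat.ofHom (Ideal.Quotient.mk (J ^ (n + 1))))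
      have h3 := congr($h2 k)
      rw [CommRingCat.comp_apply, CommRingCat.comp_apply, h1, map_zero] at h3
      rw [← Ideal.Quotient.eq_zero_iff_mem]
      exact h3.symm
    have hbot : (Scheme.ΓSpecIso (CommRingCat.of R)).hom k ∈ (⊥ : Ideal R) := by
      rw [← Ideal.iInf_pow_eq_bot_of_isLocalRing J hJ, Ideal.mem_iInf]
      intro n
      exact Ideal.pow_le_pow_right (Nat.le_succ n) (hmem n)
    have h0 : (Scheme.ΓSpecIso (CommRingCat.of R)).hom k = 0 := hbot
    have := congr((Scheme.ΓSpecIso (CommRingCat.of R)).inv $h0)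
    simpa using this
  have hiso : IsIso ι.appTop := by
    rw [ConcreteCategory.isIso_iff_bijective]
    exact ⟨hinj, hsurj⟩
  exact (HasAffineProperty.iff_of_isAffine (P := MorphismProperty.isomorphisms Scheme)).mpr
    ⟨hE, hiso⟩

theorem isClosedImmersion_of_closedPoint_mem_range {R : Type u} [CommRing R] [IsLocalRing R]
    {E : Scheme.{u}} (ι : E ⟶ Spec (CommRingCat.of R)) [IsImmersion ι]
    (hc : IsLocalRing.closedPoint R ∈ Set.range ι) : IsClosedImmersion ι := by
  apply IsClosedImmersion.of_isPreimmersion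
  obtain ⟨O, C, hO, hC, hOC⟩ := ι.isLocallyClosed_range
  have hcO : IsLocalRing.closedPoint R ∈ O := by
    rw [hOC] at hc; exact hc.1
  have : (⟨O, hO⟩ : TopologicalSpace.Opens (PrimeSpectrum R)) = ⊤ :=
    (IsLocalRing.closedPoint_mem_iff _).mp hcO
  have hO' : O = Set.univ := by
    have := congrArg (fun U : TopologicalSpace.Opens (PrimeSpectrum R) => (U : Set (PrimeSpectrum R))) this
    exact this
  rw [hOC, hO', Set.univ_inter]
  exact hC

theorem hom_ext_of_forall_quotient_pow {R : Type u} [CommRing R] [IsLocalRing R]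
    [IsNoetherianRing R] (J : Ideal R) (hJ : J ≠ ⊤) {Y : Scheme.{u}}
    (a b : Spec (CommRingCat.of R) ⟶ Y)
    (h : ∀ n : ℕ, Spec.map (CommRingCat.ofHom (Ideal.Quotient.mk (J ^ (n + 1)))) ≫ a =
      Spec.map (CommRingCat.ofHom (Ideal.Quotient.mk (J ^ (n + 1)))) ≫ b) : a = b := by
  have hlift : ∀ n : ℕ, ∃ g : Spec (CommRingCat.of (R ⧸ J ^ (n + 1))) ⟶ equalizer a b,
      g ≫ equalizer.ι a b = Spec.map (CommRingCat.ofHom (Ideal.Quotient.mk (J ^ (n + 1)))) :=
    fun n => ⟨equalizer.lift _ (h n), equalizer.lift_ι _ _⟩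
  have hc : IsLocalRing.closedPoint R ∈ Set.range (equalizer.ι a b) := by
    obtain ⟨g, hg⟩ := hlift 0
    have hle : J ^ (0 + 1) ≤ IsLocalRing.maximalIdeal R := by
      rw [zero_add, pow_one]; exact IsLocalRing.le_maximalIdeal hJ
    have hmem : IsLocalRing.closedPoint R ∈
        Set.range (Spec.map (CommRingCat.ofHom (Ideal.Quotient.mk (J ^ (0 + 1))))) := by
      have := _root_.range_comap_of_surjective _ (Ideal.Quotient.mk (J ^ (0 + 1)))
        Ideal.Quotient.mk_surjective
      rw [Ideal.mk_ker] at this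
      have h2 : IsLocalRing.closedPoint R ∈
          PrimeSpectrum.zeroLocus ((J ^ (0 + 1) : Ideal R) : Set R) := hle
      rw [← this] at h2
      obtain ⟨p, hp⟩ := h2
      exact ⟨p, hp⟩
    obtain ⟨p, hp⟩ := hmem
    refine ⟨g p, ?_⟩
    rw [← Scheme.Hom.comp_apply, hg, hp]
  haveI := isClosedImmersion_of_closedPoint_mem_range (equalizer.ι a b) hc
  haveI := isIso_of_isClosedImmersion_of_forall_lift J hJ (equalizer.ι a b) hlift
  exact eq_of_epi_equalizer

/-- general form: the test schemes `T n ⟶ Spec R` only need kernels inside `J^(n+1)`. -/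
theorem isIso_of_isClosedImmersion_of_forall_lift' {R : Type u} [CommRing R] [IsLocalRing R]
    [IsNoetherianRing R] (J : Ideal R) (hJ : J ≠ ⊤) {E : Scheme.{u}}
    (ι : E ⟶ Spec (CommRingCat.of R)) [IsClosedImmersion ι]
    (h : ∀ n : ℕ, ∃ (T : Scheme.{u}) (t : T ⟶ Spec (CommRingCat.of R)) (g : T ⟶ E),
      g ≫ ι = t ∧ ∀ k : Γ(Spec (CommRingCat.of R), ⊤), t.appTop k = 0 →
        (Scheme.ΓSpecIso (CommRingCat.of R)).hom k ∈ J ^ (n + 1)) :
    IsIso ι := by
  obtain ⟨hE, hsurj⟩ := IsClosedImmersion.isAffine_surjective_of_isAffine ι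
  have hinj : Function.Injective ι.appTop := by
    rw [injective_iff_map_eq_zero]
    intro k hk
    have hmem : ∀ n : ℕ, (Scheme.ΓSpecIso (CommRingCat.of R)).hom k ∈ J ^ (n + 1) := by
      intro n
      obtain ⟨T, t, g, hg, hker⟩ := h n
      apply hker
      rw [← hg, Scheme.Hom.comp_appTop]
      simp [hk]
    have hbot : (Scheme.ΓSpecIso (CommRingCat.of R)).hom k ∈ (⊥ : Ideal R) := by
      rw [← Ideal.iInf_pow_eq_bot_of_isLocalRing J hJ, Ideal.mem_iInf]
      intro n
      exact Ideal.pow_le_pow_right (Nat.le_succ n) (hmem n)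
    have h0 : (Scheme.ΓSpecIso (CommRingCat.of R)).hom k = 0 := hbot
    have := congr((Scheme.ΓSpecIso (CommRingCat.of R)).inv $h0)
    simpa using this
  have hiso : IsIso ι.appTop := by
    rw [ConcreteCategory.isIso_iff_bijective]
    exact ⟨hinj, hsurj⟩
  exact (HasAffineProperty.iff_of_isAffine (P := MorphismProperty.isomorphisms Scheme)).mpr
    ⟨hE, hiso⟩

end Groth.Agent.Lib.Helper11.KrullSpec
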