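import Mathlib
import Groth.Agent.Lib.Helper54.FSchComap
import Groth.Agent.Lib.Helper82.EffCartier
import Groth.Agent.Lib.Helper11.KrullSpec

/-!
# Completions along inverse image ideals: closed immersion / isomorphism "near" (helper11)
General lemmas used for S5739 / S5740 (EGA III 4.6.7, 4.6.8).
-/

set_option autoImplicit false
universe u
open CategoryTheory AlgebraicGeometry Limits

namespace Groth.Agent.Lib.Helper11.ComplNear

/-- shrink an open of `Y` containing `h⁻¹ C` to the preimage of an open of `Z` containing `C`. -/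
theorem shrink {Y Z : Scheme.{u}} (h : Y ⟶ Z) (hcl : IsClosedMap h) (T : Y.Opens) (C : Set Z)
    (hC : h ⁻¹' C ⊆ T) : ∃ U : Z.Opens, C ⊆ U ∧ h ⁻¹ᵁ U ≤ T := by
  refine ⟨⟨(h '' (T : Set Y)ᶜ)ᶜ, (hcl _ T.2.isClosed_compl).isOpen_compl⟩, ?_, ?_⟩
  · intro z hz
    rintro ⟨y, hy, rfl⟩
    exact hy (hC hz)
  · intro y hy
    by_contra hyT
    exact hy ⟨y, hyT, rfl⟩

/-- a target-local property of `f ∣_ T` passes to smaller opens. -/
theorem restrict_of_le (P : MorphismProperty Scheme.{u}) [IsZariskiLocalAtTarget P]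
    {X Y : Scheme.{u}} (f : X ⟶ Y) (T W : Y.Opens) (hWT : W ≤ T) (hT : P (f ∣_ T)) :
    P (f ∣_ W) := by
  have h1 : P (f ∣_ T ∣_ (T.ι ⁻¹ᵁ W)) := IsZariskiLocalAtTarget.restrict hT _
  have e : T.ι ''ᵁ (T.ι ⁻¹ᵁ W) = W := by
    rw [Scheme.Hom.image_preimage_eq_opensRange_inf, Scheme.Opens.opensRange_ι]
    exact inf_eq_right.mpr hWT
  exact (P.arrow_mk_iso_iff (morphismRestrictRestrict f T (T.ι ⁻¹ᵁ W) ≪≫
    morphismRestrictEq f e)).mp h1

/-- a target-local property holding for `f ∣_ V i` for all `i` holds for `f ∣_ ⨆ i, V i`. -/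
theorem restrict_iSup (P : MorphismProperty Scheme.{u}) [IsZariskiLocalAtTarget P]
    {X Y : Scheme.{u}} (f : X ⟶ Y) {T : Type*} (V : T → Y.Opens) (hV : ∀ i, P (f ∣_ V i)) :
    P (f ∣_ ⨆ i, V i) := by
  let 𝒰 := Scheme.Opens.iSupOpenCover V
  refine (IsZariskiLocalAtTarget.iff_of_openCover (P := P) 𝒰).mpr fun x ↦ ?_
  refine (P.arrow_mk_iso_iff
    ((morphismRestrictRestrict ..).symm ≪≫ morphismRestrictOpensRange ..)).mp ?_
  have : Scheme.Opens.ι _ ''ᵁ (𝒰.f x).opensRange = V x := by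
    simp only [Scheme.Opens.iSupOpenCover, 𝒰, ← Scheme.Hom.opensRange_comp, Scheme.homOfLE_ι,
      Scheme.Opens.opensRange_ι]
  convert! hV x

section RingLemmas
open scoped Pointwise

/-- Nakayama: finite `B → A`, surjective mod `K` ⇒ `r A ⊆ φ(B)` for some `r ∈ 1 + K`. -/
theorem exists_smul_mem_range {B A : Type*} [CommRing B] [CommRing A] [Algebra B A] [Module.Finite B A]
    (K : Ideal B) (hsurj : ∀ a : A, ∃ b : B, a - algebraMap B A b ∈ K.map (algebraMap B A)) :
    ∃ r : B, r - 1 ∈ K ∧ ∀ a : A, ∃ b : B, algebraMap B A b = algebraMap B A r * a := by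
  have hfg : (⊤ : Submodule B A).FG := Module.Finite.fg_top
  have hle : (⊤ : Submodule B A) ≤ LinearMap.range (Algebra.linearMap B A) ⊔ K • (⊤ : Submodule B A) := by
    intro a _
    obtain ⟨b, hb⟩ := hsurj a
    rw [Ideal.smul_top_eq_map]
    have : a = algebraMap B A b + (a - algebraMap B A b) := by ring
    rw [this]
    exact Submodule.add_mem_sup ⟨b, rfl⟩ hb
  obtain ⟨r, hr1, hr2⟩ := Submodule.exists_sub_one_mem_and_smul_le_of_fg_of_le_sup hfg le_rfl hle
  refine ⟨r, hr1, fun a => ?_⟩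
  have : r • a ∈ r • (⊤ : Submodule B A) := Submodule.smul_mem_pointwise_smul a r ⊤ trivial
  obtain ⟨b, hb⟩ := hr2 this
  exact ⟨b, by rw [← Algebra.smul_def]; exact hb⟩

/-- surjectivity of the localized map. -/
theorem away_map_surjective {B A B' A' : Type*} [CommRing B] [CommRing A] [CommRing B'] [CommRing A']
    [Algebra B B'] [Algebra A A'] (φ : B →+* A) (r : B) [IsLocalization.Away r B']
    [IsLocalization.Away (φ r) A'] (h : ∀ a : A, ∃ b : B, φ b = φ r * a) :
    Function.Surjective (IsLocalization.Away.map B' A' φ r) := by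
  intro x
  obtain ⟨a, ⟨_, n, rfl⟩, rfl⟩ := IsLocalization.exists_mk'_eq (Submonoid.powers (φ r)) x
  obtain ⟨b, hb⟩ := h a
  refine ⟨IsLocalization.mk' B' b (⟨r ^ (n + 1), ⟨n + 1, rfl⟩⟩ : Submonoid.powers r), ?_⟩
  rw [IsLocalization.Away.map, IsLocalization.map_mk', IsLocalization.mk'_eq_iff_eq]
  simp only [map_pow, hb]
  congr 1
  ring

end RingLemmas

section StepC

variable {X Y : Scheme.{u}} (f : X ⟶ Y) (K0 : Y.IdealSheafData) (I0 : X.IdealSheafData)

/-- surjectivity modulo the ideal, from the closed immersion at level `0`. -/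
theorem exists_sub_mem_map (hI : I0 = K0.comap f) (hle : K0 ≤ I0.map f)
    [IsClosedImmersion (Scheme.IdealSheafData.subschemeMap I0 K0 f hle)]
    (V : Y.Opens) (hV : IsAffineOpen V) (hV' : IsAffineOpen (f ⁻¹ᵁ V)) (a : Γ(X, f ⁻¹ᵁ V)) :
    ∃ b : Γ(Y, V), a - f.app V b ∈ (K0.ideal ⟨V, hV⟩).map (f.app V).hom := by
  let f0 := Scheme.IdealSheafData.subschemeMap I0 K0 f hle
  have e : f0 ≫ K0.subschemeι = I0.subschemeι ≫ f :=
    Scheme.IdealSheafData.subschemeMap_subschemeι _ _ _ _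
  have hV0 : IsAffineOpen (K0.subschemeι ⁻¹ᵁ V) := hV.preimage K0.subschemeι
  have e1 := Scheme.Hom.congr_app e V
  rw [Scheme.Hom.comp_app, Scheme.Hom.comp_app] at e1
  -- e1 : K0.subschemeι.app V ≫ f0.app _ = (f.app V ≫ I0.subschemeι.app _) ≫ map eqToHom
  set ρ := I0.subscheme.presheaf.map (eqToHom (by rw [e]) :
    (f0 ≫ K0.subschemeι) ⁻¹ᵁ V ⟶ (I0.subschemeι ≫ f) ⁻¹ᵁ V).op with hρ
  obtain ⟨c, hc⟩ := f0.app_surjective (K0.subschemeι ⁻¹ᵁ V) hV0
    (ρ.hom (I0.subschemeι.app (f ⁻¹ᵁ V) a))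
  obtain ⟨b, hb⟩ := K0.subschemeι_app_surjective ⟨V, hV⟩ c
  refine ⟨b, ?_⟩
  have h2 : ρ.hom (I0.subschemeι.app (f ⁻¹ᵁ V) (f.app V b)) =
      ρ.hom (I0.subschemeι.app (f ⁻¹ᵁ V) a) := by
    rw [← hc, ← hb]
    have := congr($e1 b)
    simp only [CommRingCat.comp_apply] at this
    exact this.symm
  have hρinj : Function.Injective ρ.hom := by
    have : IsIso ρ := by rw [hρ]; infer_instance
    exact ((ConcreteCategory.isIso_iff_bijective ρ).mp this).1
  have h3 := hρinj h2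
  have hmem : a - f.app V b ∈ RingHom.ker (I0.subschemeι.app (f ⁻¹ᵁ V)).hom := by
    rw [RingHom.mem_ker, map_sub, sub_eq_zero]
    exact h3.symm
  have hk := I0.ker_subschemeι_app ⟨f ⁻¹ᵁ V, hV'⟩
  rw [hk] at hmem
  have hcomap := Groth.Agent.Lib.Helper82.ideal_comap_of_le f K0 (f ⁻¹ᵁ V) hV' V hV le_rfl
  rw [← hI, Scheme.Hom.appLE_eq_app] at hcomap
  rw [← hcomap]
  exact hmem

theorem surjective_app_of_eq {X Y : Scheme.{u}} (f : X ⟶ Y) {U U' : Y.Opens} (e : U = U')
    (h : Function.Surjective (f.app U)) : Function.Surjective (f.app U') := by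
  subst e; exact h

/-- closed immersion over a basic open `D(r)`, `r ∈ 1 + K`. -/
theorem exists_basicOpen_isClosedImmersion (hI : I0 = K0.comap f) (hle : K0 ≤ I0.map f)
    [IsClosedImmersion (Scheme.IdealSheafData.subschemeMap I0 K0 f hle)]
    (V : Y.Opens) (hV : IsAffineOpen V) (hV' : IsAffineOpen (f ⁻¹ᵁ V))
    (hfin : (f.app V).hom.Finite) :
    ∃ r : Γ(Y, V), (∀ y ∈ V, y ∈ K0.support → y ∈ Y.basicOpen r) ∧
      IsClosedImmersion (f ∣_ Y.basicOpen r) := by
  algebraize [(f.app V).hom]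
  obtain ⟨r, hr1, hr2⟩ := exists_smul_mem_range (B := Γ(Y, V)) (A := Γ(X, f ⁻¹ᵁ V))
    (K0.ideal ⟨V, hV⟩) (fun a => exists_sub_mem_map f K0 I0 hI hle V hV hV' a)
  refine ⟨r, ?_, ?_⟩
  · intro y hyV hy
    rw [Scheme.IdealSheafData.mem_support_iff_of_mem (U := ⟨V, hV⟩) hyV,
      Scheme.mem_zeroLocus_iff] at hy
    have h1 := hy (r - 1) hr1
    rw [Scheme.mem_basicOpen _ _ _ hyV] at h1 ⊢
    rw [map_sub, map_one] at h1
    apply IsLocalRing.isUnit_of_mem_nonunits_one_sub_self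
    rw [mem_nonunits_iff, ← neg_sub, IsUnit.neg_iff]
    exact h1
  · have hD : IsAffineOpen (Y.basicOpen r) := hV.basicOpen r
    have hD' : IsAffineOpen (f ⁻¹ᵁ Y.basicOpen r) := by
      rw [Scheme.preimage_basicOpen]; exact hV'.basicOpen _
    haveI : IsAffine (Y.basicOpen r).toScheme := hD
    haveI : IsAffine (f ⁻¹ᵁ Y.basicOpen r).toScheme := hD'
    apply IsClosedImmersion.of_surjective_of_isAffine
    rw [morphismRestrict_appTop]
    have hs1 : Function.Surjective (f.app (Y.basicOpen r)) := by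
      have := (RingHom.surjective_respectsIso.arrow_mk_iso_iff
        (hV.appBasicOpenIsoAwayMap f hV' r))
      rw [this]
      letI := hV.isLocalization_basicOpen r
      letI := hV'.isLocalization_basicOpen (f.app V r)
      exact away_map_surjective (f.app V).hom r hr2
    have hs2 := surjective_app_of_eq f (Y.basicOpen r).ι_image_top.symm hs1
    have : IsIso ((X.presheaf.map (eqToHom (image_morphismRestrict_preimage f
      (Y.basicOpen r) ⊤)).op)) := inferInstance
    have hbij := ((ConcreteCategory.isIso_iff_bijective _).mp this).2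
    intro t
    obtain ⟨t', ht'⟩ := hbij t
    obtain ⟨b, hb⟩ := hs2 t'
    exact ⟨b, by rw [← ht', ← hb]; rfl⟩

end StepC

section StepAB

variable {X Y : Scheme.{u}} (f : X ⟶ Y) (K0 : Y.IdealSheafData) (I0 : X.IdealSheafData)

/-- if the whole fibre through `x` lies in `X₀` and level `0` is injective, `f` is quasi-finite at `x`. -/
theorem quasiFiniteAt_of_level0 [LocallyOfFiniteType f] (hle : K0 ≤ I0.map f)
    (hinj : Function.Injective (Scheme.IdealSheafData.subschemeMap I0 K0 f hle))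
    (x : X) (hx : ∀ x' : X, f x' = f x → x' ∈ Set.range I0.subschemeι) :
    f.QuasiFiniteAt x := by
  rw [Scheme.Hom.quasiFiniteAt_iff_isOpen_singleton_asFiber]
  have e : Scheme.IdealSheafData.subschemeMap I0 K0 f hle ≫ K0.subschemeι = I0.subschemeι ≫ f :=
    Scheme.IdealSheafData.subschemeMap_subschemeι _ _ _ _
  have hsub : Subsingleton (f ⁻¹' {f x}) := by
    constructor
    rintro ⟨x', hx'⟩ ⟨x'', hx''⟩
    obtain ⟨a', rfl⟩ := hx x' hx'
    obtain ⟨a'', rfl⟩ := hx x'' hx''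
    have h1 : K0.subschemeι (Scheme.IdealSheafData.subschemeMap I0 K0 f hle a') =
        K0.subschemeι (Scheme.IdealSheafData.subschemeMap I0 K0 f hle a'') := by
      rw [← Scheme.Hom.comp_apply, ← Scheme.Hom.comp_apply, e, Scheme.Hom.comp_apply,
        Scheme.Hom.comp_apply]
      exact hx'.trans hx''.symm
    have h2 := hinj (K0.subschemeι.isClosedEmbedding.injective h1)
    subst h2
    rfl
  haveI : Subsingleton (f.fiber (f x)) := (f.fiberHomeo (f x)).toEquiv.subsingleton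
  have : ({f.asFiber x} : Set (f.fiber (f x))) = Set.univ :=
    Set.eq_univ_of_forall fun b => Subsingleton.elim _ _
  rw [this]
  exact isOpen_univ

theorem locallyQuasiFinite_restrict [LocallyOfFiniteType f] (T : Y.Opens)
    (hT : f ⁻¹ᵁ T ≤ f.quasiFiniteLocus) : LocallyQuasiFinite (f ∣_ T) := by
  haveI : LocallyOfFiniteType (f ∣_ T) :=
    IsZariskiLocalAtTarget.restrict (P := @LocallyOfFiniteType) inferInstance _
  rw [← Scheme.Hom.quasiFiniteLocus_eq_top_iff, eq_top_iff]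
  intro x' _
  rw [Scheme.Hom.mem_quasiFiniteLocus]
  have h1 : f.QuasiFiniteAt ((f ⁻¹ᵁ T).ι x') := hT x'.2
  rwa [← Scheme.Hom.quasiFiniteAt_comp_iff_of_isOpenImmersion (f := (f ⁻¹ᵁ T).ι),
    ← morphismRestrict_ι, Scheme.Hom.quasiFiniteAt_comp_iff] at h1

theorem finite_app_of_isFinite_restrict (V : Y.Opens) (hV : IsAffineOpen V)
    [IsFinite (f ∣_ V)] : IsAffineOpen (f ⁻¹ᵁ V) ∧ (f.app V).hom.Finite := by
  haveI : IsAffine V.toScheme := hV
  have h1 : IsAffine (f ⁻¹ᵁ V).toScheme := isAffine_of_isAffineHom (f ∣_ V)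
  refine ⟨h1, ?_⟩
  have := IsFinite.finite_app (f ∣_ V) ⊤ (isAffineOpen_top _)
  rw [morphismRestrict_app'] at this
  rw [Scheme.Hom.app_eq_appLE]
  refine (Scheme.Hom.appLE_congr f _ ?_ ?_ (fun φ => φ.hom.Finite)).mp this
  · exact V.ι_image_top
  · simp

end StepAB

section Levels

variable {X Y Z : Scheme.{u}} (g : X ⟶ Z) (h : Y ⟶ Z) (f : X ⟶ Y) (w : f ≫ h = g)
  (𝓙 : Z.IdealSheafData)

include w in
theorem comap_g_eq : 𝓙.comap g = (𝓙.comap h).comap f := by
  rw [← Scheme.IdealSheafData.comap_comp, w]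

omit w in
theorem preimage_support_subset (n : ℕ) (x : X)
    (hx : x ∈ Set.range ((𝓙.comap g) ^ (n + 1)).subschemeι) : g x ∈ (𝓙.support : Set Z) := by
  rw [Scheme.IdealSheafData.range_subschemeι, Scheme.IdealSheafData.support_pow_succ,
    Scheme.IdealSheafData.support_comap] at hx
  exact hx

include w in
/-- `(⇐)` of the closed immersion case. -/
theorem level_isClosedImmersion_of_near [IsProper g] [IsSeparated h] (n : ℕ)
    (hle : (𝓙.comap h) ^ (n + 1) ≤ ((𝓙.comap g) ^ (n + 1)).map f)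
    (U : Z.Opens) (hU : (𝓙.support : Set Z) ⊆ U) (hf : IsClosedImmersion (f ∣_ h ⁻¹ᵁ U)) :
    IsClosedImmersion (Scheme.IdealSheafData.subschemeMap ((𝓙.comap g) ^ (n + 1))
      ((𝓙.comap h) ^ (n + 1)) f hle) := by
  haveI : IsProper (f ≫ h) := by rw [w]; infer_instance
  haveI : IsProper f := IsProper.of_comp f h
  let c := ((𝓙.comap g) ^ (n + 1)).subschemeι ≫ f
  have hc : IsClosedImmersion c := by
    have hcl : IsClosed (Set.range c) := c.isClosedMap.isClosed_range
    let W : Y.Opens := ⟨(Set.range c)ᶜ, hcl.isOpen_compl⟩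
    apply IsZariskiLocalAtTarget.of_iSup_eq_top (P := @IsClosedImmersion)
      (fun b : Bool => cond b (h ⁻¹ᵁ U) W)
    · rw [eq_top_iff]
      intro y _
      rw [TopologicalSpace.Opens.mem_iSup]
      by_cases hy : y ∈ Set.range c
      · refine ⟨true, ?_⟩
        obtain ⟨a, rfl⟩ := hy
        show h (c a) ∈ U
        apply hU
        have := preimage_support_subset g 𝓙 n _ ⟨a, rfl⟩
        have e : h (c a) = g (((𝓙.comap g) ^ (n + 1)).subschemeι a) := by
          simp only [c, ← Scheme.Hom.comp_apply, Category.assoc, w]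
        rw [e]
        exact this
      · exact ⟨false, hy⟩
    · rintro (_ | _)
      · show IsClosedImmersion (c ∣_ W)
        haveI : IsEmpty ((c ⁻¹ᵁ W).toScheme) := ⟨fun ⟨a, ha⟩ => ha ⟨a, rfl⟩⟩
        infer_instance
      · show IsClosedImmersion (c ∣_ (h ⁻¹ᵁ U))
        rw [morphismRestrict_comp]
        have h1 : IsClosedImmersion (((𝓙.comap g) ^ (n + 1)).subschemeι ∣_ f ⁻¹ᵁ h ⁻¹ᵁ U) :=
          IsZariskiLocalAtTarget.restrict (P := @IsClosedImmersion) inferInstance _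
        exact MorphismProperty.comp_mem (W := @IsClosedImmersion) _ _ h1 hf
  have : IsClosedImmersion (Scheme.IdealSheafData.subschemeMap ((𝓙.comap g) ^ (n + 1))
      ((𝓙.comap h) ^ (n + 1)) f hle ≫ ((𝓙.comap h) ^ (n + 1)).subschemeι) := by
    rw [Scheme.IdealSheafData.subschemeMap_subschemeι]; exact hc
  exact IsClosedImmersion.of_comp_isClosedImmersion _ ((𝓙.comap h) ^ (n + 1)).subschemeι

include w in
theorem level_ideal_eq (n : ℕ) :
    (𝓙.comap g) ^ (n + 1) = ((𝓙.comap h) ^ (n + 1)).comap f := by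
  rw [Groth.Agent.Lib.Helper54.FSchSpf.comap_pow, comap_g_eq g h f w 𝓙]

include w in
/-- `(⇒)` of the closed immersion case (only level `0` is used). -/
theorem near_of_level0_isClosedImmersion [IsProper g] [IsProper h]
    (hle : (𝓙.comap h) ^ (0 + 1) ≤ ((𝓙.comap g) ^ (0 + 1)).map f)
    [IsClosedImmersion (Scheme.IdealSheafData.subschemeMap ((𝓙.comap g) ^ (0 + 1))
      ((𝓙.comap h) ^ (0 + 1)) f hle)] :
    ∃ U : Z.Opens, (𝓙.support : Set Z) ⊆ U ∧ IsClosedImmersion (f ∣_ h ⁻¹ᵁ U) := by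
  haveI : IsProper (f ≫ h) := by rw [w]; infer_instance
  haveI : IsProper f := IsProper.of_comp f h
  have hgx : ∀ x : X, g x = h (f x) := fun x => by rw [← w]; rfl
  -- Step A
  have hA : ∀ x : X, g x ∈ (𝓙.support : Set Z) → x ∈ f.quasiFiniteLocus := by
    intro x hx
    rw [Scheme.Hom.mem_quasiFiniteLocus]
    refine quasiFiniteAt_of_level0 f _ _ hle
      (Scheme.IdealSheafData.subschemeMap _ _ f hle).isClosedEmbedding.injective x ?_
    intro x' hx'
    rw [Scheme.IdealSheafData.range_subschemeι, Scheme.IdealSheafData.support_pow_succ,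
      Scheme.IdealSheafData.support_comap]
    show g x' ∈ (𝓙.support : Set Z)
    rw [hgx, hx', ← hgx]
    exact hx
  -- Step B
  obtain ⟨T, hT1, hT2⟩ := shrink f f.isClosedMap f.quasiFiniteLocus (h ⁻¹' (𝓙.support : Set Z))
    (fun x hx => hA x (by rw [hgx]; exact hx))
  haveI : LocallyQuasiFinite (f ∣_ T) := locallyQuasiFinite_restrict f T hT2
  haveI : IsProper (f ∣_ T) := IsZariskiLocalAtTarget.restrict (P := @IsProper) inferInstance _
  have hfinT : IsFinite (f ∣_ T) := IsFinite.of_isProper_of_locallyQuasiFinite _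
  -- Step C
  have hI := level_ideal_eq g h f w 𝓙 0
  have hsupp : ∀ y : Y, h y ∈ (𝓙.support : Set Z) → y ∈ ((𝓙.comap h) ^ (0 + 1)).support := by
    intro y hy
    rw [Scheme.IdealSheafData.support_pow_succ, Scheme.IdealSheafData.support_comap]
    exact hy
  have key : ∀ y : {y : Y // h y ∈ (𝓙.support : Set Z)}, ∃ D : Y.Opens, y.1 ∈ D ∧
      IsClosedImmersion (f ∣_ D) := by
    rintro ⟨y, hy⟩
    obtain ⟨_, ⟨V, hV, rfl⟩, hyV, hVT⟩ := Y.isBasis_affineOpens.exists_subset_of_mem_open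
      (hT1 hy) T.2
    haveI : IsFinite (f ∣_ V) := restrict_of_le @IsFinite f T V hVT hfinT
    obtain ⟨hV', hfin⟩ := finite_app_of_isFinite_restrict f V hV
    obtain ⟨r, hr1, hr2⟩ := exists_basicOpen_isClosedImmersion f _ _ hI hle V hV hV' hfin
    exact ⟨Y.basicOpen r, hr1 y hyV (hsupp y hy), hr2⟩
  choose D hD1 hD2 using key
  have hT' : IsClosedImmersion (f ∣_ ⨆ y, D y) := restrict_iSup @IsClosedImmersion f D hD2
  obtain ⟨U, hU1, hU2⟩ := shrink h h.isClosedMap (⨆ y, D y) (𝓙.support : Set Z)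
    (fun y hy => TopologicalSpace.Opens.mem_iSup.mpr ⟨⟨y, hy⟩, hD1 ⟨y, hy⟩⟩)
  exact ⟨U, hU1, restrict_of_le @IsClosedImmersion f _ _ hU2 hT'⟩

end Levels

end Groth.Agent.Lib.Helper11.ComplNear
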