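import Mathlib
import Groth.Agent.Lib.Helper11.ComplNear

/-!
# Completions: the isomorphism case "near" (helper11), EGA III 4.6.8
-/

set_option autoImplicit false
universe u
open CategoryTheory AlgebraicGeometry Limits

namespace Groth.Agent.Lib.Helper11.ComplNear

open Groth.Agent.Lib.Helper11.KrullSpec

/-- a closed immersion `F : X' ⟶ Y'` through which all infinitesimal neighbourhoods of `V(K)` factor
is an isomorphism near every point of `V(K)`. -/
theorem exists_isIso_restrict_of_lifts {X' Y' : Scheme.{u}} [IsLocallyNoetherian Y'] (F : X' ⟶ Y')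
    [IsClosedImmersion F] (K : Y'.IdealSheafData) (y' : Y') (hy' : y' ∈ K.support)
    (c : ∀ n : ℕ, (K ^ (n + 1)).subscheme ⟶ X')
    (hc : ∀ n, c n ≫ F = (K ^ (n + 1)).subschemeι) :
    ∃ D : Y'.Opens, y' ∈ D ∧ IsIso (F ∣_ D) := by
  let φ := Y'.fromSpecStalk y'
  let J' : Ideal Γ(Spec (Y'.presheaf.stalk y'), ⊤) := (K.comap φ).ideal ⟨⊤, isAffineOpen_top _⟩
  let e := (Scheme.ΓSpecIso (Y'.presheaf.stalk y')).hom.hom
  have he : Function.Bijective e :=
    (ConcreteCategory.isIso_iff_bijective (Scheme.ΓSpecIso (Y'.presheaf.stalk y')).hom).mp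
      inferInstance
  let J : Ideal (Y'.presheaf.stalk y') := J'.map e
  have hJ' : J' ≠ ⊤ := by
    intro hJ'
    let cp : ↥(Spec (Y'.presheaf.stalk y')) := IsLocalRing.closedPoint (Y'.presheaf.stalk y')
    have hcl : cp ∈ (K.comap φ).support := by
      rw [Scheme.IdealSheafData.support_comap]
      show φ cp ∈ K.support
      have : φ cp = y' := Scheme.fromSpecStalk_closedPoint
      rw [this]
      exact hy'
    rw [Scheme.IdealSheafData.mem_support_iff_of_mem (U := ⟨⊤, isAffineOpen_top _⟩) trivial,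
      Scheme.mem_zeroLocus_iff] at hcl
    have h1 := hcl 1 (by show (1 : Γ(Spec (Y'.presheaf.stalk y'), ⊤)) ∈ J'; rw [hJ']; trivial)
    rw [Scheme.basicOpen_one] at h1
    exact h1 trivial
  have hJ : J ≠ ⊤ := by
    intro hJ
    apply hJ'
    rw [← Ideal.comap_map_of_bijective e he (I := J')]
    show Ideal.comap e J = ⊤
    rw [hJ, Ideal.comap_top]
  haveI : IsIso (pullback.fst φ F) := by
    refine isIso_of_isClosedImmersion_of_forall_lift' (R := (Y'.presheaf.stalk y' : Type u)) J hJ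
      (pullback.fst φ F) (fun n => ?_)
    refine ⟨pullback φ (K ^ (n + 1)).subschemeι, pullback.fst _ _,
      pullback.lift (pullback.fst _ _) (pullback.snd _ _ ≫ c n)
        (by rw [Category.assoc, hc, pullback.condition]), pullback.lift_fst _ _ _, ?_⟩
    intro k hk
    have h1 : k ∈ ((K ^ (n + 1)).comap φ).ideal ⟨⊤, isAffineOpen_top _⟩ := by
      show k ∈ (pullback.fst φ (K ^ (n + 1)).subschemeι).ker.ideal ⟨⊤, isAffineOpen_top _⟩
      rw [Scheme.Hom.ker_apply, RingHom.mem_ker]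
      exact hk
    rw [Groth.Agent.Lib.Helper54.FSchSpf.comap_pow, Scheme.IdealSheafData.ideal_pow,
      Pi.pow_apply] at h1
    have h2 : e k ∈ (J' ^ (n + 1)).map e := Ideal.mem_map_of_mem e h1
    rw [Ideal.map_pow] at h2
    exact h2
  let σ : Spec (Y'.presheaf.stalk y') ⟶ X' := inv (pullback.fst φ F) ≫ pullback.snd φ F
  have hσ : σ ≫ F = φ := by
    rw [Category.assoc, ← pullback.condition, IsIso.inv_hom_id_assoc]
  obtain ⟨D, hyD, s, -, hs⟩ := spread_out_of_isGermInjective' (𝟙 Y') F σ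
    (by rw [hσ, Category.comp_id])
  rw [Category.comp_id] at hs
  refine ⟨D, hyD, ?_⟩
  have hrange : Set.range s ⊆ Set.range (F ⁻¹ᵁ D).ι := by
    rintro _ ⟨d, rfl⟩
    rw [Scheme.Opens.range_ι]
    show F (s d) ∈ D
    rw [← Scheme.Hom.comp_apply, hs]
    exact d.2
  let s' : (D : Scheme.{u}) ⟶ (F ⁻¹ᵁ D) := IsOpenImmersion.lift (F ⁻¹ᵁ D).ι s hrange
  have hs' : s' ≫ (F ∣_ D) = 𝟙 _ := by
    rw [← cancel_mono D.ι, Category.assoc, morphismRestrict_ι, ← Category.assoc,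
      IsOpenImmersion.lift_fac, hs, Category.id_comp]
  haveI : IsClosedImmersion (F ∣_ D) :=
    IsZariskiLocalAtTarget.restrict (P := @IsClosedImmersion) inferInstance _
  haveI : IsSplitEpi (F ∣_ D) := IsSplitEpi.mk' ⟨s', hs'⟩
  exact isIso_of_mono_of_isSplitEpi _

section Levels

variable {X Y Z : Scheme.{u}} (g : X ⟶ Z) (h : Y ⟶ Z) (f : X ⟶ Y) (w : f ≫ h = g)
  (𝓙 : Z.IdealSheafData)

include w in
/-- `(⇐)` of the isomorphism case. -/
theorem level_isIso_of_near (n : ℕ)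
    (hle : (𝓙.comap h) ^ (n + 1) ≤ ((𝓙.comap g) ^ (n + 1)).map f)
    (U : Z.Opens) (hU : (𝓙.support : Set Z) ⊆ U) (hf : IsIso (f ∣_ h ⁻¹ᵁ U)) :
    IsIso (Scheme.IdealSheafData.subschemeMap ((𝓙.comap g) ^ (n + 1))
      ((𝓙.comap h) ^ (n + 1)) f hle) := by
  have hgx : ∀ x : X, g x = h (f x) := fun x => by rw [← w]; rfl
  let Y' := h ⁻¹ᵁ U
  let ιX := ((𝓙.comap g) ^ (n + 1)).subschemeι
  let ιY := ((𝓙.comap h) ^ (n + 1)).subschemeι
  let fn := Scheme.IdealSheafData.subschemeMap ((𝓙.comap g) ^ (n + 1))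
      ((𝓙.comap h) ^ (n + 1)) f hle
  have e : fn ≫ ιY = ιX ≫ f := Scheme.IdealSheafData.subschemeMap_subschemeι _ _ _ _
  have hrY : Set.range ιY ⊆ Set.range Y'.ι := by
    rw [Scheme.IdealSheafData.range_subschemeι, Scheme.IdealSheafData.support_pow_succ,
      Scheme.IdealSheafData.support_comap, Scheme.Opens.range_ι]
    intro y hy
    exact hU hy
  have hrX : Set.range ιX ⊆ Set.range (f ⁻¹ᵁ Y').ι := by
    rw [Scheme.IdealSheafData.range_subschemeι, Scheme.IdealSheafData.support_pow_succ,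
      Scheme.IdealSheafData.support_comap, Scheme.Opens.range_ι]
    intro x hx
    show h (f x) ∈ U
    rw [← hgx]
    exact hU hx
  let jY := IsOpenImmersion.lift Y'.ι ιY hrY
  have hjY : jY ≫ Y'.ι = ιY := IsOpenImmersion.lift_fac _ _ _
  let jX := IsOpenImmersion.lift (f ⁻¹ᵁ Y').ι ιX hrX
  have hjX : jX ≫ (f ⁻¹ᵁ Y').ι = ιX := IsOpenImmersion.lift_fac _ _ _
  let σ := jY ≫ inv (f ∣_ Y') ≫ (f ⁻¹ᵁ Y').ι
  have hσ : σ ≫ f = ιY := by
    simp only [σ, Category.assoc]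
    rw [← morphismRestrict_ι, IsIso.inv_hom_id_assoc, hjY]
  have hker : ιX.ker ≤ σ.ker := by
    rw [Scheme.IdealSheafData.ker_subschemeι, level_ideal_eq g h f w 𝓙 n,
      ← Scheme.IdealSheafData.le_map_iff_comap_le, Scheme.IdealSheafData.map_ker, hσ,
      Scheme.IdealSheafData.ker_subschemeι]
  let τ := IsClosedImmersion.lift ιX σ hker
  have hτ : τ ≫ ιX = σ := IsClosedImmersion.lift_fac _ _ _
  have h1 : fn ≫ jY = jX ≫ (f ∣_ Y') := by
    rw [← cancel_mono Y'.ι, Category.assoc, hjY, Category.assoc, morphismRestrict_ι,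
      ← Category.assoc, hjX, e]
  refine ⟨τ, ?_, ?_⟩
  · rw [← cancel_mono ιX, Category.assoc, hτ]
    simp only [σ]
    rw [← Category.assoc fn, h1, Category.assoc, IsIso.hom_inv_id_assoc, hjX, Category.id_comp]
  · rw [← cancel_mono ιY, Category.assoc, e, ← Category.assoc, hτ, hσ, Category.id_comp]

include w in
/-- `(⇒)` of the isomorphism case. -/
theorem near_of_levels_isIso [IsLocallyNoetherian Z] [IsProper g] [IsProper h]
    (hle : ∀ n : ℕ, (𝓙.comap h) ^ (n + 1) ≤ ((𝓙.comap g) ^ (n + 1)).map f)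
    (hiso : ∀ n : ℕ, IsIso (Scheme.IdealSheafData.subschemeMap ((𝓙.comap g) ^ (n + 1))
      ((𝓙.comap h) ^ (n + 1)) f (hle n))) :
    ∃ U : Z.Opens, (𝓙.support : Set Z) ⊆ U ∧ IsIso (f ∣_ h ⁻¹ᵁ U) := by
  haveI := hiso 0
  obtain ⟨U₀, hU₀, hF⟩ := near_of_level0_isClosedImmersion g h f w 𝓙 (hle 0)
  haveI : IsLocallyNoetherian Y := LocallyOfFiniteType.isLocallyNoetherian h
  let Y' := h ⁻¹ᵁ U₀
  let K : Y'.toScheme.IdealSheafData := (𝓙.comap h).comap Y'.ι
  have hKpow : ∀ n : ℕ, K ^ (n + 1) = ((𝓙.comap h) ^ (n + 1)).comap Y'.ι := fun n =>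
    (Groth.Agent.Lib.Helper54.FSchSpf.comap_pow _ _ _).symm
  have key : ∀ y : {y : Y // h y ∈ (𝓙.support : Set Z)}, ∃ D : Y.Opens, y.1 ∈ D ∧
      IsIso (f ∣_ D) := by
    rintro ⟨y, hy⟩
    have hyY' : y ∈ Y' := hU₀ hy
    -- the lifts
    have hc : ∀ n : ℕ, ∃ c : (K ^ (n + 1)).subscheme ⟶ (f ⁻¹ᵁ Y').toScheme,
        c ≫ (f ∣_ Y') = (K ^ (n + 1)).subschemeι := by
      intro n
      haveI := hiso n
      let fn := Scheme.IdealSheafData.subschemeMap ((𝓙.comap g) ^ (n + 1))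
        ((𝓙.comap h) ^ (n + 1)) f (hle n)
      have e : fn ≫ ((𝓙.comap h) ^ (n + 1)).subschemeι =
          ((𝓙.comap g) ^ (n + 1)).subschemeι ≫ f :=
        Scheme.IdealSheafData.subschemeMap_subschemeι _ _ _ _
      let m := Scheme.IdealSheafData.subschemeMap (K ^ (n + 1)) ((𝓙.comap h) ^ (n + 1)) Y'.ι
        (Scheme.IdealSheafData.le_map_iff_comap_le.mpr (hKpow n).ge)
      have hm : m ≫ ((𝓙.comap h) ^ (n + 1)).subschemeι = (K ^ (n + 1)).subschemeι ≫ Y'.ι :=
        Scheme.IdealSheafData.subschemeMap_subschemeι _ _ _ _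
      let cX := m ≫ inv fn ≫ ((𝓙.comap g) ^ (n + 1)).subschemeι
      have hcX : cX ≫ f = (K ^ (n + 1)).subschemeι ≫ Y'.ι := by
        simp only [cX, Category.assoc]
        rw [← e, IsIso.inv_hom_id_assoc, hm]
      have hrange : Set.range cX ⊆ Set.range (f ⁻¹ᵁ Y').ι := by
        rintro _ ⟨p, rfl⟩
        rw [Scheme.Opens.range_ι]
        show f (cX p) ∈ Y'
        rw [← Scheme.Hom.comp_apply, hcX, Scheme.Hom.comp_apply]
        exact ((K ^ (n + 1)).subschemeι p).2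
      refine ⟨IsOpenImmersion.lift (f ⁻¹ᵁ Y').ι cX hrange, ?_⟩
      rw [← cancel_mono Y'.ι, Category.assoc, morphismRestrict_ι, ← Category.assoc,
        IsOpenImmersion.lift_fac, hcX]
    choose c hc using hc
    have hy' : (⟨y, hyY'⟩ : Y'.toScheme) ∈ K.support := by
      rw [Scheme.IdealSheafData.support_comap, Scheme.IdealSheafData.support_comap]
      exact hy
    haveI : IsClosedImmersion (f ∣_ Y') := hF
    obtain ⟨D', hyD', hD'⟩ := exists_isIso_restrict_of_lifts (f ∣_ Y') K ⟨y, hyY'⟩ hy' c hc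
    refine ⟨Y'.ι ''ᵁ D', ⟨⟨y, hyY'⟩, hyD', rfl⟩, ?_⟩
    exact ((MorphismProperty.isomorphisms Scheme).arrow_mk_iso_iff
      (morphismRestrictRestrict f Y' D')).mp hD'
  choose D hD1 hD2 using key
  have hT' : IsIso (f ∣_ ⨆ y, D y) :=
    restrict_iSup (MorphismProperty.isomorphisms Scheme) f D hD2
  obtain ⟨U, hU1, hU2⟩ := shrink h h.isClosedMap (⨆ y, D y) (𝓙.support : Set Z)
    (fun y hy => TopologicalSpace.Opens.mem_iSup.mpr ⟨⟨y, hy⟩, hD1 ⟨y, hy⟩⟩)
  exact ⟨U, hU1, restrict_of_le (MorphismProperty.isomorphisms Scheme) f _ _ hU2 hT'⟩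

end Levels

end Groth.Agent.Lib.Helper11.ComplNear
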