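import Mathlib

/-!
# Local structure of essentially-finite-type local homomorphisms

* `EssLocal.isLocalization_atPrime`: for a local `A`-algebra `B` essentially of finite type (with `B`
  local), `B` is the localization of the finite type subalgebra `C = EssFiniteType.subalgebra A B`
  at the prime `q = m_B ∩ C`.
* `EssLocal.exists_algHom_localization`: if moreover `f ∉ q` and `φ : D →ₐ[A] C_f` is surjective,
  then for the prime `𝔮` of `D` below `m_B` the induced map `D_𝔮 → B` is surjective, and it is
  bijective if `φ` is.
* `EssLocal.formallyEtale_of_local`: flat + `m_A B = m_B` + separable residue extension implies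
  formally étale (for Noetherian `A`).
-/

set_option autoImplicit false
universe u

namespace Groth.Agent.Lib.Helper11.EssLocal

open IsLocalRing Algebra

section

variable (A B : Type u) [CommRing A] [CommRing B] [IsLocalRing B] [Algebra A B]
  [Algebra.EssFiniteType A B]

/-- The prime of the finite type subalgebra below the maximal ideal of `B`. -/
noncomputable abbrev q : Ideal (EssFiniteType.subalgebra A B) :=
  (maximalIdeal B).comap (algebraMap (EssFiniteType.subalgebra A B) B)

instance : (q A B).IsPrime := Ideal.comap_isPrime _ _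

theorem submonoid_eq : EssFiniteType.submonoid A B = (q A B).primeCompl := by
  ext x
  change IsUnit (algebraMap (EssFiniteType.subalgebra A B) B x) ↔
    ¬ (algebraMap (EssFiniteType.subalgebra A B) B x ∈ maximalIdeal B)
  rw [mem_maximalIdeal, mem_nonunits_iff, not_not]

instance isLocalization_atPrime : IsLocalization.AtPrime B (q A B) := by
  change IsLocalization (q A B).primeCompl B
  rw [← submonoid_eq]
  infer_instance

end

section Lift

variable {A C B D : Type u} [CommRing A] [CommRing C] [CommRing B] [CommRing D]
  [Algebra A C] [Algebra A B] [Algebra C B] [IsScalarTower A C B] [Algebra A D]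
  [IsLocalRing B] (q : Ideal C) [q.IsPrime] [IsLocalization.AtPrime B q]
  (f : C) (hf : f ∉ q)

include hf in
theorem isUnit_algebraMap_of_notMem : IsUnit (algebraMap C B f) :=
  IsLocalization.map_units (M := q.primeCompl) B ⟨f, hf⟩

/-- The canonical map `C_f → B`. -/
noncomputable def ψ : Localization.Away f →ₐ[A] B :=
  { IsLocalization.Away.lift (S := Localization.Away f) f
      (isUnit_algebraMap_of_notMem (B := B) q f hf) with
    commutes' := fun a => by
      rw [IsScalarTower.algebraMap_apply A C (Localization.Away f)]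
      change IsLocalization.Away.lift f _ (algebraMap C (Localization.Away f) (algebraMap A C a)) = _
      rw [IsLocalization.Away.lift_eq, ← IsScalarTower.algebraMap_apply] }

theorem ψ_algebraMap (c : C) : ψ (A := A) (B := B) q f hf (algebraMap C (Localization.Away f) c) =
    algebraMap C B c :=
  IsLocalization.Away.lift_eq f (isUnit_algebraMap_of_notMem (B := B) q f hf) c

variable (φ : D →ₐ[A] Localization.Away f) (hφ : Function.Surjective φ)

/-- The prime of `D` below the maximal ideal of `B`. -/
noncomputable abbrev 𝔮 : Ideal D := (maximalIdeal B).comap ((ψ (A := A) (B := B) q f hf).comp φ)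

instance : (𝔮 q f hf φ (B := B)).IsPrime := Ideal.comap_isPrime _ _

/-- The induced map `D_𝔮 → B`. -/
noncomputable def Θ : Localization.AtPrime (𝔮 q f hf φ (B := B)) →ₐ[A] B :=
  IsLocalization.liftAlgHom (M := (𝔮 q f hf φ (B := B)).primeCompl)
    (f := (ψ (A := A) (B := B) q f hf).comp φ) (by
      rintro ⟨d, hd⟩
      by_contra h
      exact hd ((mem_maximalIdeal _).mpr h))

theorem Θ_mk' (d : D) (s : (𝔮 q f hf φ (B := B)).primeCompl) :
    Θ q f hf φ (IsLocalization.mk' _ d s) * (ψ (A := A) (B := B) q f hf (φ s)) =
      ψ (A := A) (B := B) q f hf (φ d) := by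
  have h1 : Θ q f hf φ (algebraMap D _ (s : D)) = ψ (A := A) (B := B) q f hf (φ s) := by
    simp [Θ, IsLocalization.liftAlgHom]
  have h2 : Θ q f hf φ (algebraMap D _ d) = ψ (A := A) (B := B) q f hf (φ d) := by
    simp [Θ, IsLocalization.liftAlgHom]
  rw [← h1, ← map_mul, IsLocalization.mk'_spec, h2]

include hφ in
theorem Θ_surjective : Function.Surjective (Θ q f hf φ (B := B)) := by
  intro b
  obtain ⟨c, s, rfl⟩ := IsLocalization.exists_mk'_eq q.primeCompl b
  obtain ⟨d₁, hd₁⟩ := hφ (algebraMap C _ c)
  obtain ⟨d₂, hd₂⟩ := hφ (algebraMap C _ (s : C))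
  have hs : IsUnit (algebraMap C B (s : C)) := IsLocalization.map_units B s
  have hd₂' : d₂ ∈ (𝔮 q f hf φ (B := B)).primeCompl := by
    intro h
    have : ψ (A := A) (B := B) q f hf (φ d₂) ∈ maximalIdeal B := h
    rw [hd₂, ψ_algebraMap] at this
    exact (mem_maximalIdeal _).mp this hs
  refine ⟨IsLocalization.mk' _ d₁ ⟨d₂, hd₂'⟩, ?_⟩
  have h := Θ_mk' q f hf φ d₁ ⟨d₂, hd₂'⟩
  simp only [hd₁, hd₂, ψ_algebraMap] at h
  rw [IsLocalization.eq_mk'_iff_mul_eq]
  exact h

include hφ in
theorem Θ_injective (hinj : Function.Injective φ) : Function.Injective (Θ q f hf φ (B := B)) := by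
  rw [injective_iff_map_eq_zero]
  intro x hx
  obtain ⟨d, s, rfl⟩ := IsLocalization.exists_mk'_eq (𝔮 q f hf φ (B := B)).primeCompl x
  have h := Θ_mk' q f hf φ d s
  rw [hx, zero_mul] at h
  -- `φ d = c / f^n`
  obtain ⟨c, ⟨_, n, rfl⟩, hc⟩ := IsLocalization.exists_mk'_eq (Submonoid.powers f) (φ d)
  have h1 : algebraMap C (Localization.Away f) c = φ d * algebraMap C _ (f ^ n) := by
    rw [← hc, IsLocalization.mk'_spec]
  have h2 : algebraMap C B c = 0 := by
    rw [← ψ_algebraMap (A := A) q f hf c, h1, map_mul, ← h, zero_mul]
  obtain ⟨t, ht⟩ := (IsLocalization.map_eq_zero_iff q.primeCompl B c).mp h2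
  obtain ⟨d', hd'⟩ := hφ (algebraMap C _ (t : C))
  have hd'' : d' ∈ (𝔮 q f hf φ (B := B)).primeCompl := by
    intro h
    have : ψ (A := A) (B := B) q f hf (φ d') ∈ maximalIdeal B := h
    rw [hd', ψ_algebraMap] at this
    exact (mem_maximalIdeal _).mp this (IsLocalization.map_units B t)
  have hfu : IsUnit (algebraMap C (Localization.Away f) (f ^ n)) :=
    IsLocalization.map_units (M := Submonoid.powers f) _ ⟨f ^ n, n, rfl⟩
  have h3 : d' * d = 0 := by
    apply hinj
    rw [map_mul, map_zero, hd']
    apply hfu.mul_left_injective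
    simp only
    rw [zero_mul, mul_assoc, ← h1, ← map_mul, ht, map_zero]
  rw [IsLocalization.mk'_eq_zero_iff]
  exact ⟨⟨d', hd''⟩, h3⟩

end Lift

section Etale

variable (A B : Type u) [CommRing A] [CommRing B] [IsLocalRing A] [IsLocalRing B]
  [Algebra A B] [IsLocalHom (algebraMap A B)] [Algebra.EssFiniteType A B]

theorem formallyUnramified_of_local
    (hm : (maximalIdeal A).map (algebraMap A B) = maximalIdeal B)
    [Algebra.IsSeparable (ResidueField A) (ResidueField B)] :
    Algebra.FormallyUnramified A B :=
  Algebra.FormallyUnramified.of_map_maximalIdeal hm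

open TensorProduct in
theorem formallyEtale_of_local [IsNoetherianRing A] [Module.Flat A B]
    (hm : (maximalIdeal A).map (algebraMap A B) = maximalIdeal B)
    [Algebra.IsSeparable (ResidueField A) (ResidueField B)] :
    Algebra.FormallyEtale A B := by
  have hunr : Algebra.FormallyUnramified A B := formallyUnramified_of_local A B hm
  have : Algebra.FormallyEtale (ResidueField A) (ResidueField A ⊗[A] B) :=
    Algebra.FormallyEtale.of_formallyUnramified_of_field _ _
  have hfp : Algebra.FinitePresentation A (EssFiniteType.subalgebra A B) :=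
    Algebra.FinitePresentation.of_finiteType.mp inferInstance
  have hsm : Algebra.FormallySmooth A B :=
    Algebra.FormallySmooth.of_formallySmooth_residueField_tensor
      (R := A) (S := B) (P := EssFiniteType.subalgebra A B) (EssFiniteType.submonoid A B)
  exact Algebra.FormallyEtale.of_formallyUnramified_and_formallySmooth

end Etale

end Groth.Agent.Lib.Helper11.EssLocal
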