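import Mathlib

/-!
# Base change of the range of an idempotent matrix (helper11)

`Groth.Agent.H11Idem.tensor_range_equiv`: if `Emat` is an idempotent `n × n` matrix over `R`,
`I` an ideal, and `Pb` is an `R/I`-module which is a retract of `(R/I)^n` with idempotent the
reduction of `Emat`, then `(R/I) ⊗ range(Emat) ≃ Pb`.
-/

set_option autoImplicit false
universe u
open scoped TensorProduct

namespace Groth.Agent.H11Idem

theorem tensor_range_equiv {R : Type u} [CommRing R] (I : Ideal R) {n : ℕ}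
    (Emat : Matrix (Fin n) (Fin n) R) (hE : IsIdempotentElem Emat)
    {Pb : Type*} [AddCommGroup Pb] [Module (R ⧸ I) Pb]
    (f : (Fin n → R ⧸ I) →ₗ[R ⧸ I] Pb) (g : Pb →ₗ[R ⧸ I] (Fin n → R ⧸ I))
    (hfg : f ∘ₗ g = LinearMap.id)
    (hgf : g ∘ₗ f = Matrix.toLin' ((RingHom.mapMatrix (Ideal.Quotient.mk I)) Emat)) :
    Nonempty (((R ⧸ I) ⊗[R] (LinearMap.range (Matrix.toLin' Emat))) ≃ₗ[R ⧸ I] Pb) := by
  classical
  let eb : (Fin n → R ⧸ I) →ₗ[R ⧸ I] (Fin n → R ⧸ I) := g ∘ₗ f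
  let e : (Fin n → R) →ₗ[R] (Fin n → R) := Matrix.toLin' Emat
  have hee : e ∘ₗ e = e := by
    simp only [e]
    rw [← Matrix.toLin'_mul, hE.eq]
  let P : Submodule R (Fin n → R) := LinearMap.range e
  have hsi : e.rangeRestrict ∘ₗ P.subtype = LinearMap.id := by
    refine LinearMap.ext fun x => ?_
    obtain ⟨x, y, rfl⟩ := x
    apply Subtype.ext
    simp only [LinearMap.comp_apply, Submodule.subtype_apply, LinearMap.id_apply,
      LinearMap.codRestrict_apply]
    exact LinearMap.congr_fun hee y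
  have his : P.subtype ∘ₗ e.rangeRestrict = e := by
    refine LinearMap.ext fun x => ?_
    simp
  let S := R ⧸ I
  let φ : S ⊗[R] (Fin n → R) ≃ₗ[S] (Fin n → S) := TensorProduct.piScalarRight R S S (Fin n)
  have key : ∀ x : S ⊗[R] (Fin n → R), φ (LinearMap.baseChange S e x) = eb (φ x) := by
    intro x
    induction x using TensorProduct.induction_on with
    | zero => simp
    | add x y hx hy => simp only [map_add, hx, hy]
    | tmul s v =>
      have heb : eb = Matrix.toLin' ((RingHom.mapMatrix (Ideal.Quotient.mk I)) Emat) := hgf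
      rw [heb]
      ext i
      simp only [φ, LinearMap.baseChange_tmul, TensorProduct.piScalarRight_apply,
        TensorProduct.piScalarRightHom_tmul, e, Matrix.toLin'_apply, Matrix.mulVec, dotProduct,
        RingHom.mapMatrix_apply, Matrix.map_apply]
      rw [Finset.sum_smul]
      refine Finset.sum_congr rfl fun j _ => ?_
      rw [Algebra.smul_def, Algebra.smul_def, map_mul]
      simp only [mul_assoc]
      rfl
  let i₁ : S ⊗[R] P →ₗ[S] (Fin n → S) := φ.toLinearMap ∘ₗ LinearMap.baseChange S P.subtype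
  let p₁ : (Fin n → S) →ₗ[S] S ⊗[R] P :=
    LinearMap.baseChange S e.rangeRestrict ∘ₗ φ.symm.toLinearMap
  have hp₁i₁ : p₁ ∘ₗ i₁ = LinearMap.id := by
    refine LinearMap.ext fun x => ?_
    simp only [p₁, i₁, LinearMap.comp_apply, LinearEquiv.coe_coe, LinearEquiv.symm_apply_apply,
      LinearMap.id_apply]
    rw [← LinearMap.comp_apply, ← LinearMap.baseChange_comp, hsi, LinearMap.baseChange_id]
    rfl
  have hi₁p₁ : i₁ ∘ₗ p₁ = eb := by
    refine LinearMap.ext fun x => ?_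
    simp only [p₁, i₁, LinearMap.comp_apply, LinearEquiv.coe_coe]
    rw [← LinearMap.comp_apply (LinearMap.baseChange S P.subtype),
      ← LinearMap.baseChange_comp, his, key, LinearEquiv.apply_symm_apply]
  refine ⟨LinearEquiv.ofLinearMap (f ∘ₗ i₁) (p₁ ∘ₗ g) ?_ ?_⟩
  · calc (f ∘ₗ i₁) ∘ₗ (p₁ ∘ₗ g) = f ∘ₗ (i₁ ∘ₗ p₁) ∘ₗ g := by
          simp only [LinearMap.comp_assoc]
      _ = (f ∘ₗ g) ∘ₗ (f ∘ₗ g) := by rw [hi₁p₁]; simp only [eb, LinearMap.comp_assoc]
      _ = LinearMap.id := by rw [hfg]; rfl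
  · calc (p₁ ∘ₗ g) ∘ₗ (f ∘ₗ i₁) = p₁ ∘ₗ (g ∘ₗ f) ∘ₗ i₁ := by
          simp only [LinearMap.comp_assoc]
      _ = p₁ ∘ₗ (i₁ ∘ₗ p₁) ∘ₗ i₁ := by rw [hi₁p₁]
      _ = (p₁ ∘ₗ i₁) ∘ₗ (p₁ ∘ₗ i₁) := by simp only [LinearMap.comp_assoc]
      _ = LinearMap.id := by rw [hp₁i₁]; rfl

end Groth.Agent.H11Idem
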