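/-
Helper library (helper11): basic theory of the prelude's λ-rings with positive structure
(`LambdaRing.LambdaOps`, `PosStructure`, `adams`, `KRR.lamAlt`, `KRR.bott`).

Main results:
* `lamSeries_add`, `lamSeries_zero`, `nlam_add`, `sig_add`
* `adams_add`, `adamsHom` : Adams operations are additive
* `adams_of_lam_eq_zero` : `ψ^j u = u^j` for `u` with `λ^i u = 0`, `i ≥ 2`
* `adams_map` : extensions commute with `ψ^j`
* `lam_multiset_sum` : `λ^k (Σ u_i) = e_k(u)` for line elements
* `lamAlt_multiset_sum`, `bott_multiset_sum`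
* `exists_splitting`
-/
import Groth.Prelude.Def_KRR
import Mathlib.RingTheory.Polynomial.Vieta
import Mathlib.Tactic.Ring
import Mathlib.Tactic.LinearCombination

set_option autoImplicit false
universe u

namespace Groth.Agent.H11Lam

open LambdaRing Finset PowerSeries

section basic

variable {K : Type u} [CommRing K] [LambdaOps K]

theorem coeff_lamSeries (x : K) (k : ℕ) : coeff k (lamSeries x) = LambdaOps.lam k x := by
  simp [lamSeries]

theorem lamSeries_add (x y : K) : lamSeries (x + y) = lamSeries x * lamSeries y := by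
  ext k
  rw [PowerSeries.coeff_mul, coeff_lamSeries, LambdaOps.lam_add,
    Finset.Nat.sum_antidiagonal_eq_sum_range_succ_mk]
  simp [coeff_lamSeries]

theorem constantCoeff_lamSeries (x : K) : constantCoeff (lamSeries x) = 1 := by
  rw [← PowerSeries.coeff_zero_eq_constantCoeff_apply, coeff_lamSeries, LambdaOps.lam_zero]

theorem isUnit_lamSeries (x : K) : IsUnit (lamSeries x) := by
  rw [PowerSeries.isUnit_iff_constantCoeff, constantCoeff_lamSeries]; exact isUnit_one

theorem lamSeries_zero : lamSeries (0 : K) = 1 := by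
  have h := lamSeries_add (0 : K) 0
  rw [add_zero] at h
  have hu := isUnit_lamSeries (0 : K)
  have : lamSeries (0 : K) * 1 = lamSeries (0 : K) * lamSeries (0 : K) := by rw [mul_one]; exact h
  exact (hu.mul_left_cancel this).symm

theorem lam_zero_elt (k : ℕ) (hk : 1 ≤ k) : LambdaOps.lam k (0 : K) = 0 := by
  rw [← coeff_lamSeries, lamSeries_zero, PowerSeries.coeff_one, if_neg (by omega)]

/-- `λ_{-t}(x)`. -/
noncomputable def nlam (x : K) : PowerSeries K := rescale (-1 : K) (lamSeries x)

theorem nlam_add (x y : K) : nlam (x + y) = nlam x * nlam y := by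
  unfold nlam; rw [lamSeries_add, map_mul]

theorem constantCoeff_nlam (x : K) : constantCoeff (nlam x) = 1 := by
  unfold nlam
  rw [← PowerSeries.coeff_zero_eq_constantCoeff_apply, coeff_rescale, coeff_lamSeries,
    LambdaOps.lam_zero]; simp

/-- `σ_t(x) = λ_{-t}(x)⁻¹`. -/
noncomputable def sig (x : K) : PowerSeries K := (nlam x).invOfUnit 1

theorem sig_eq (x : K) : sig x = KRR.sigmaSeries x := rfl

theorem nlam_mul_sig (x : K) : nlam x * sig x = 1 :=
  PowerSeries.mul_invOfUnit _ _ (by rw [constantCoeff_nlam]; rfl)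

theorem sig_unique (x : K) (s : PowerSeries K) (h : nlam x * s = 1) : s = sig x := by
  have h2 := nlam_mul_sig x
  calc s = s * (nlam x * sig x) := by rw [h2, mul_one]
    _ = (nlam x * s) * sig x := by ring
    _ = sig x := by rw [h, one_mul]

theorem sig_add (x y : K) : sig (x + y) = sig x * sig y := by
  symm
  apply sig_unique
  rw [nlam_add]
  calc nlam x * nlam y * (sig x * sig y) = (nlam x * sig x) * (nlam y * sig y) := by ring
    _ = 1 := by rw [nlam_mul_sig, nlam_mul_sig, one_mul]

theorem adamsSeries_eq (P : PosStructure K) (x : K) :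
    adamsSeries P x = PowerSeries.C (P.aug x : K) -
      PowerSeries.X * (PowerSeries.derivative K (nlam x)) * sig x := rfl

theorem adamsSeries_add (P : PosStructure K) (x y : K) :
    adamsSeries P (x + y) = adamsSeries P x + adamsSeries P y := by
  rw [adamsSeries_eq, adamsSeries_eq, adamsSeries_eq, nlam_add, sig_add, map_add, Int.cast_add,
    map_add, Derivation.leibniz]
  have hx := nlam_mul_sig x
  have hy := nlam_mul_sig y
  simp only [smul_eq_mul]
  linear_combination (-(PowerSeries.X * (PowerSeries.derivative K (nlam y)) * sig y)) * hx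
    - (PowerSeries.X * (PowerSeries.derivative K (nlam x)) * sig x) * hy

theorem adams_add (P : PosStructure K) (j : ℕ) (x y : K) :
    adams P j (x + y) = adams P j x + adams P j y := by
  unfold adams; rw [adamsSeries_add, map_add]

/-- The Adams operation as an additive map. -/
noncomputable def adamsHom (P : PosStructure K) (j : ℕ) : K →+ K :=
  AddMonoidHom.mk' (adams P j) (adams_add P j)

@[simp] theorem adamsHom_apply (P : PosStructure K) (j : ℕ) (x : K) :
    adamsHom P j x = adams P j x := rfl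

theorem adams_zero_elt (P : PosStructure K) (j : ℕ) : adams P j (0 : K) = 0 :=
  (adamsHom P j).map_zero

theorem adams_neg (P : PosStructure K) (j : ℕ) (x : K) : adams P j (-x) = -adams P j x :=
  (adamsHom P j).map_neg x

theorem adams_sub (P : PosStructure K) (j : ℕ) (x y : K) :
    adams P j (x - y) = adams P j x - adams P j y :=
  (adamsHom P j).map_sub x y

theorem adams_sum (P : PosStructure K) (j : ℕ) {ι : Type*} (s : Finset ι) (g : ι → K) :
    adams P j (∑ i ∈ s, g i) = ∑ i ∈ s, adams P j (g i) :=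
  map_sum (adamsHom P j) g s

theorem adams_multiset_sum (P : PosStructure K) (j : ℕ) (s : Multiset K) :
    adams P j s.sum = (s.map (adams P j)).sum :=
  map_multiset_sum (adamsHom P j) s

/-- For `u` with `λ^i u = 0` (`i ≥ 2`): `λ_t(u) = 1 + u t`. -/
theorem lamSeries_of_lam_eq_zero (u : K) (hu : ∀ i, 2 ≤ i → LambdaOps.lam i u = 0) :
    lamSeries u = 1 + PowerSeries.C u * PowerSeries.X := by
  ext k
  rw [coeff_lamSeries, map_add, PowerSeries.coeff_one, PowerSeries.coeff_C_mul,
    PowerSeries.coeff_X]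
  rcases k with _ | _ | k
  · simp [LambdaOps.lam_zero]
  · simp [LambdaOps.lam_one]
  · rw [hu _ (by omega)]; simp

theorem coeff_nlam (x : K) (k : ℕ) : coeff k (nlam x) = (-1) ^ k * LambdaOps.lam k x := by
  unfold nlam; rw [coeff_rescale, coeff_lamSeries]

theorem nlam_of_lam_eq_zero (u : K) (hu : ∀ i, 2 ≤ i → LambdaOps.lam i u = 0) :
    nlam u = 1 - PowerSeries.C u * PowerSeries.X := by
  ext k
  rw [coeff_nlam, map_sub, PowerSeries.coeff_one, PowerSeries.coeff_C_mul, PowerSeries.coeff_X]
  rcases k with _ | _ | k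
  · simp [LambdaOps.lam_zero]
  · simp [LambdaOps.lam_one]
  · rw [hu _ (by omega)]; simp

theorem sig_of_lam_eq_zero (u : K) (hu : ∀ i, 2 ≤ i → LambdaOps.lam i u = 0) :
    sig u = PowerSeries.mk fun k => u ^ k := by
  symm
  apply sig_unique
  rw [nlam_of_lam_eq_zero u hu]
  ext k
  rw [sub_mul, one_mul, map_sub, mul_assoc, PowerSeries.coeff_C_mul, PowerSeries.coeff_mk,
    PowerSeries.coeff_one]
  rcases k with _ | k
  · simp
  · rw [PowerSeries.coeff_succ_X_mul, PowerSeries.coeff_mk, if_neg (by omega)]; ring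

theorem adams_of_lam_eq_zero (P : PosStructure K) (u : K)
    (hu : ∀ i, 2 ≤ i → LambdaOps.lam i u = 0) (j : ℕ) (hj : 1 ≤ j) : adams P j u = u ^ j := by
  unfold adams
  rw [adamsSeries_eq, sig_of_lam_eq_zero u hu, nlam_of_lam_eq_zero u hu]
  obtain ⟨j, rfl⟩ : ∃ j', j = j' + 1 := ⟨j - 1, by omega⟩
  have hd : PowerSeries.derivative K (1 - PowerSeries.C u * PowerSeries.X) = - PowerSeries.C u := by
    rw [map_sub, PowerSeries.derivative_one, Derivation.leibniz, PowerSeries.derivative_C,
      PowerSeries.derivative_X]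
    simp
  rw [hd, map_sub, PowerSeries.coeff_C, if_neg (by omega), mul_assoc,
    PowerSeries.coeff_succ_X_mul, neg_mul, map_neg, PowerSeries.coeff_C_mul, PowerSeries.coeff_mk]
  ring

theorem lam_line (P : PosStructure K) {u : K} (hu : P.IsLine u) (i : ℕ) (hi : 2 ≤ i) :
    LambdaOps.lam i u = 0 := by
  apply P.lam_eq_zero u hu.1 i
  rw [hu.2]
  exact_mod_cast hi

theorem adams_line (P : PosStructure K) {u : K} (hu : P.IsLine u) (j : ℕ) (hj : 1 ≤ j) :
    adams P j u = u ^ j :=
  adams_of_lam_eq_zero P u (lam_line P hu) j hj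

end basic

section ext

variable {K L : Type u} [CommRing K] [LambdaOps K] [CommRing L] [LambdaOps L]

theorem lamSeries_map (f : K →+* L) (hf : IsLambdaHom f) (x : K) :
    lamSeries (f x) = PowerSeries.map f (lamSeries x) := by
  ext k
  rw [coeff_lamSeries, PowerSeries.coeff_map, coeff_lamSeries, hf k x]

theorem nlam_map (f : K →+* L) (hf : IsLambdaHom f) (x : K) :
    nlam (f x) = PowerSeries.map f (nlam x) := by
  ext k
  rw [coeff_nlam, PowerSeries.coeff_map, coeff_nlam, ← hf k x]
  simp

theorem sig_map (f : K →+* L) (hf : IsLambdaHom f) (x : K) :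
    sig (f x) = PowerSeries.map f (sig x) := by
  symm
  apply sig_unique
  rw [nlam_map f hf, ← map_mul, nlam_mul_sig, map_one]

omit [LambdaOps K] [LambdaOps L] in
theorem derivative_map (f : K →+* L) (s : PowerSeries K) :
    PowerSeries.derivative L (PowerSeries.map f s) =
      PowerSeries.map f (PowerSeries.derivative K s) := by
  ext k
  rw [PowerSeries.coeff_derivative, PowerSeries.coeff_map, PowerSeries.coeff_map,
    PowerSeries.coeff_derivative]
  simp

theorem adamsSeries_map (P : PosStructure K) (P' : PosStructure L) (f : K →+* L)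
    (hf : IsLambdaHom f) (haug : ∀ x, P'.aug (f x) = P.aug x) (x : K) :
    adamsSeries P' (f x) = PowerSeries.map f (adamsSeries P x) := by
  rw [adamsSeries_eq, adamsSeries_eq, haug, nlam_map f hf, sig_map f hf, derivative_map, map_sub,
    map_mul, map_mul, PowerSeries.map_X, PowerSeries.map_C]
  simp

theorem adams_map (P : PosStructure K) (P' : PosStructure L) (f : K →+* L)
    (hf : IsLambdaHom f) (haug : ∀ x, P'.aug (f x) = P.aug x) (j : ℕ) (x : K) :
    adams P' j (f x) = f (adams P j x) := by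
  unfold adams
  rw [adamsSeries_map P P' f hf haug, PowerSeries.coeff_map]

theorem adams_ext (P : PosStructure K) (P' : PosStructure L) (f : K →+* L)
    (hf : IsExtension P P' f) (j : ℕ) (x : K) :
    adams P' j (f x) = f (adams P j x) :=
  adams_map P P' f hf.isLambdaHom hf.aug_comp j x

end ext

section lines

variable {K : Type u} [CommRing K] [LambdaOps K]

/-- For `ℓ` with `λ^i ℓ = 0` for `i ≥ 2`: `λ^{k+1}(ℓ + y) = λ^{k+1} y + ℓ λ^k y`. -/
theorem lam_succ_line_add (ℓ y : K) (hℓ : ∀ i, 2 ≤ i → LambdaOps.lam i ℓ = 0) (k : ℕ) :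
    LambdaOps.lam (k + 1) (ℓ + y) = LambdaOps.lam (k + 1) y + ℓ * LambdaOps.lam k y := by
  rw [LambdaOps.lam_add, Finset.sum_range_succ', Finset.sum_range_succ']
  have h0 : ∑ i ∈ range k, LambdaOps.lam (i + 1 + 1) ℓ * LambdaOps.lam (k + 1 - (i + 1 + 1)) y = 0 := by
    apply Finset.sum_eq_zero
    intro i _
    rw [hℓ (i + 1 + 1) (by omega), zero_mul]
  rw [h0, zero_add, LambdaOps.lam_zero, LambdaOps.lam_one, one_mul]
  simp only [zero_add, Nat.add_sub_cancel, Nat.sub_zero]
  ring

omit [LambdaOps K] in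
theorem esymm_cons_succ (u : K) (s : Multiset K) (k : ℕ) :
    (u ::ₘ s).esymm (k + 1) = s.esymm (k + 1) + u * s.esymm k := by
  unfold Multiset.esymm
  rw [Multiset.powersetCard_cons, Multiset.map_add, Multiset.sum_add, Multiset.map_map,
    ← Multiset.sum_map_mul_left]
  congr 2
  apply Multiset.map_congr rfl
  intro t _
  simp

omit [LambdaOps K] in
theorem esymm_zero' (s : Multiset K) : s.esymm 0 = 1 := by
  simp [Multiset.esymm]

omit [LambdaOps K] in
theorem esymm_eq_zero_of_card_lt (s : Multiset K) (k : ℕ) (h : Multiset.card s < k) :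
    s.esymm k = 0 := by
  simp [Multiset.esymm, Multiset.powersetCard_eq_empty k h]

/-- `λ^k` of a sum of elements with `λ_t(u) = 1 + ut` is the `k`-th elementary symmetric
function. -/
theorem lam_multiset_sum (s : Multiset K) (hs : ∀ u ∈ s, ∀ i, 2 ≤ i → LambdaOps.lam i u = 0)
    (k : ℕ) : LambdaOps.lam k s.sum = s.esymm k := by
  induction s using Multiset.induction_on generalizing k with
  | empty =>
    rcases k with _ | k
    · rw [LambdaOps.lam_zero, esymm_zero']
    · rw [Multiset.sum_zero, lam_zero_elt _ (by omega), esymm_eq_zero_of_card_lt _ _ (by simp)]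
  | cons u s ih =>
    have hs' : ∀ v ∈ s, ∀ i, 2 ≤ i → LambdaOps.lam i v = 0 :=
      fun v hv => hs v (Multiset.mem_cons_of_mem hv)
    rcases k with _ | k
    · rw [LambdaOps.lam_zero, esymm_zero']
    · rw [Multiset.sum_cons, lam_succ_line_add u _ (hs u (Multiset.mem_cons_self u s)) k,
        ih hs', ih hs', esymm_cons_succ]

theorem aug_multiset_sum (P : PosStructure K) (s : Multiset K) (hs : ∀ u ∈ s, P.IsLine u) :
    P.aug s.sum = (Multiset.card s : ℤ) := by
  rw [map_multiset_sum]
  have : s.map P.aug = s.map (fun _ => (1 : ℤ)) :=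
    Multiset.map_congr rfl (fun u hu => (hs u hu).2)
  rw [this]
  simp

theorem lamAlt_eq (P : PosStructure K) (x : K) (n : ℕ) (h : (P.aug x).toNat = n) :
    KRR.lamAlt P x = ∑ i ∈ range (n + 1), (-1 : K) ^ i * LambdaOps.lam i x := by
  subst h; rfl

/-- `λ_{-1}(Σ u_i) = Π (1 - u_i)` for line elements. -/
theorem lamAlt_multiset_sum (P : PosStructure K) (s : Multiset K) (hs : ∀ u ∈ s, P.IsLine u) :
    KRR.lamAlt P s.sum = (s.map fun u => 1 - u).prod := by
  have hn : (P.aug s.sum).toNat = Multiset.card s := by rw [aug_multiset_sum P s hs]; simp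
  rw [lamAlt_eq P _ _ hn]
  have h1 := congrArg (Polynomial.eval (1 : K)) (Multiset.prod_X_sub_X_eq_sum_esymm s)
  rw [Polynomial.eval_multiset_prod, Multiset.map_map] at h1
  simp only [Function.comp_def, Polynomial.eval_sub, Polynomial.eval_X, Polynomial.eval_C] at h1
  rw [h1, Polynomial.eval_finsetSum]
  apply Finset.sum_congr rfl
  intro i _
  rw [lam_multiset_sum s (fun u hu => lam_line P (hs u hu))]
  simp

theorem bott_eq (P : PosStructure K) (j : ℕ) (x : K) (n : ℕ) (h : (P.aug x).toNat = n) :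
    KRR.bott P j x = MvPolynomial.aeval (fun i : Fin n => LambdaOps.lam (i.1 + 1) x)
      (KRR.bottPoly j n) := by
  subst h; rfl

theorem aeval_esymm_bottPoly (j n : ℕ) :
    MvPolynomial.aeval (fun i : Fin n => MvPolynomial.esymm (Fin n) ℤ (i.1 + 1))
      (KRR.bottPoly j n) = KRR.bottSym j n := by
  have h := MvPolynomial.esymmAlgHom_apply (σ := Fin n) (R := ℤ) (n := n) (KRR.bottPoly j n)
  rw [← h]
  unfold KRR.bottPoly
  have : MvPolynomial.esymmAlgHom (Fin n) ℤ n
      ((MvPolynomial.esymmAlgEquiv (Fin n) ℤ (Fintype.card_fin n)).symm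
        ⟨KRR.bottSym j n, KRR.bottSym_isSymmetric j n⟩) =
      ⟨KRR.bottSym j n, KRR.bottSym_isSymmetric j n⟩ :=
    (MvPolynomial.esymmAlgEquiv (Fin n) ℤ (Fintype.card_fin n)).apply_symm_apply _
  rw [this]

/-- `θ^j(Σ u_i) = Π (1 + u_i + ⋯ + u_i^{j-1})` for line elements indexed by `Fin n`. -/
theorem bott_fin_sum (P : PosStructure K) (j n : ℕ) (u : Fin n → K) (hu : ∀ i, P.IsLine (u i)) :
    KRR.bott P j (∑ i, u i) = ∏ i, ∑ k ∈ range j, u i ^ k := by
  have hsum : ∑ i, u i = (Finset.univ.val.map u).sum := rfl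
  have hs : ∀ v ∈ Finset.univ.val.map u, P.IsLine v := by
    intro v hv
    rw [Multiset.mem_map] at hv
    obtain ⟨i, _, rfl⟩ := hv
    exact hu i
  have hn : (P.aug (∑ i, u i)).toNat = n := by
    rw [hsum, aug_multiset_sum P _ hs]; simp
  rw [bott_eq P j _ n hn]
  have h1 : (fun i : Fin n => LambdaOps.lam (i.1 + 1) (∑ i, u i)) =
      fun i : Fin n => MvPolynomial.aeval u (MvPolynomial.esymm (Fin n) ℤ (i.1 + 1)) := by
    funext i
    rw [MvPolynomial.aeval_esymm_eq_multiset_esymm, hsum,
      lam_multiset_sum _ (fun v hv => lam_line P (hs v hv))]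
  rw [h1, ← MvPolynomial.comp_aeval_apply, aeval_esymm_bottPoly]
  simp [KRR.bottSym]

end lines

section bottAdams

variable {K : Type u} [CommRing K] [LambdaOps K]

theorem isLine_one (P : PosStructure K) : P.IsLine (1 : K) := by
  refine ⟨?_, map_one _⟩
  have := P.natCast_mem 1 Nat.one_pos
  rwa [Nat.cast_one] at this

theorem isLine_mul (P : PosStructure K) {u v : K} (hu : P.IsLine u) (hv : P.IsLine v) :
    P.IsLine (u * v) :=
  ⟨P.mul_mem u v hu.1 hv.1, by rw [map_mul, hu.2, hv.2, mul_one]⟩

theorem isLine_prod (P : PosStructure K) {ι : Type*} (t : Finset ι) (u : ι → K)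
    (hu : ∀ i ∈ t, P.IsLine (u i)) : P.IsLine (∏ i ∈ t, u i) := by
  classical
  induction t using Finset.induction_on with
  | empty => rw [Finset.prod_empty]; exact isLine_one P
  | insert a t ha ih =>
    rw [Finset.prod_insert ha]
    exact isLine_mul P (hu a (Finset.mem_insert_self a t))
      (ih fun i hi => hu i (Finset.mem_insert_of_mem hi))

theorem isLine_pow (P : PosStructure K) {u : K} (hu : P.IsLine u) (n : ℕ) : P.IsLine (u ^ n) := by
  induction n with
  | zero => rw [pow_zero]; exact isLine_one P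
  | succ n ih => rw [pow_succ]; exact isLine_mul P ih hu

theorem adams_neg_one_pow_mul (P : PosStructure K) (j k : ℕ) (w : K) :
    adams P j ((-1) ^ k * w) = (-1) ^ k * adams P j w := by
  rcases neg_one_pow_eq_or K k with h | h
  · rw [h, one_mul, one_mul]
  · rw [h, neg_one_mul, neg_one_mul, adams_neg]

/-- `ψ^j (Π (1 - u_i)) = Π (1 - u_i^j)` for line elements `u_i`. -/
theorem adams_prod_one_sub (P : PosStructure K) {ι : Type*} (t : Finset ι) (u : ι → K)
    (hu : ∀ i ∈ t, P.IsLine (u i)) (j : ℕ) (hj : 1 ≤ j) :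
    adams P j (∏ i ∈ t, (1 - u i)) = ∏ i ∈ t, (1 - u i ^ j) := by
  have e1 : ∀ v : ι → K, ∏ i ∈ t, (1 - v i) = ∑ a ∈ t.powerset, (-1) ^ a.card * ∏ i ∈ a, v i := by
    intro v
    have : ∏ i ∈ t, (1 - v i) = ∏ i ∈ t, (1 + -v i) := by simp [sub_eq_add_neg]
    rw [this, Finset.prod_one_add]
    apply Finset.sum_congr rfl
    intro a _
    rw [Finset.prod_neg]
  rw [e1 u, e1 (fun i => u i ^ j), adams_sum]
  apply Finset.sum_congr rfl
  intro a ha
  rw [Finset.mem_powerset] at ha
  rw [adams_neg_one_pow_mul, adams_line P (isLine_prod P a u fun i hi => hu i (ha hi)) j hj,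
    Finset.prod_pow]

theorem adams_lamAlt_fin_sum (P : PosStructure K) (j n : ℕ) (hj : 1 ≤ j) (u : Fin n → K)
    (hu : ∀ i, P.IsLine (u i)) :
    adams P j (KRR.lamAlt P (∑ i, u i)) = KRR.lamAlt P (∑ i, u i) * KRR.bott P j (∑ i, u i) := by
  have hsum : ∑ i, u i = (Finset.univ.val.map u).sum := rfl
  have hs : ∀ v ∈ Finset.univ.val.map u, P.IsLine v := by
    intro v hv
    rw [Multiset.mem_map] at hv
    obtain ⟨i, _, rfl⟩ := hv
    exact hu i
  have h1 : KRR.lamAlt P (∑ i, u i) = ∏ i, (1 - u i) := by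
    rw [hsum, lamAlt_multiset_sum P _ hs, Multiset.map_map]
    rfl
  rw [bott_fin_sum P j n u hu, h1, adams_prod_one_sub P _ u (fun i _ => hu i) j hj,
    ← Finset.prod_mul_distrib]
  apply Finset.prod_congr rfl
  intro i _
  rw [mul_neg_geom_sum]

/-- Any multiset is the image of `Fin n`. -/
theorem exists_fin_of_multiset {α : Type*} (s : Multiset α) :
    ∃ (n : ℕ) (u : Fin n → α), s = Finset.univ.val.map u := by
  obtain ⟨l, rfl⟩ := Quot.exists_rep s
  refine ⟨l.length, l.get, ?_⟩
  rw [Fin.univ_val_map, List.ofFn_get]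
  rfl

theorem adams_lamAlt_multiset_sum (P : PosStructure K) (j : ℕ) (hj : 1 ≤ j) (s : Multiset K)
    (hs : ∀ u ∈ s, P.IsLine u) :
    adams P j (KRR.lamAlt P s.sum) = KRR.lamAlt P s.sum * KRR.bott P j s.sum := by
  obtain ⟨n, u, rfl⟩ := exists_fin_of_multiset s
  have hu : ∀ i, P.IsLine (u i) := fun i => hs _ (Multiset.mem_map_of_mem u (Finset.mem_univ_val i))
  exact adams_lamAlt_fin_sum P j n hj u hu

end bottAdams

section extmaps

variable {K L : Type u} [CommRing K] [LambdaOps K] [CommRing L] [LambdaOps L]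

theorem map_lamAlt (P : PosStructure K) (P' : PosStructure L) (f : K →+* L)
    (hf : IsLambdaHom f) (haug : ∀ x, P'.aug (f x) = P.aug x) (x : K) :
    f (KRR.lamAlt P x) = KRR.lamAlt P' (f x) := by
  unfold KRR.lamAlt
  rw [haug, map_sum]
  apply Finset.sum_congr rfl
  intro i _
  rw [map_mul, map_pow, map_neg, map_one, hf i x]

theorem map_bott (P : PosStructure K) (P' : PosStructure L) (f : K →+* L)
    (hf : IsLambdaHom f) (haug : ∀ x, P'.aug (f x) = P.aug x) (j : ℕ) (x : K) :
    f (KRR.bott P j x) = KRR.bott P' j (f x) := by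
  rw [bott_eq P' j (f x) (P.aug x).toNat (by rw [haug]), bott_eq P j x _ rfl]
  have := MvPolynomial.comp_aeval_apply (R := ℤ)
    (f := fun i : Fin (P.aug x).toNat => LambdaOps.lam (i.1 + 1) x) f.toIntAlgHom
    (KRR.bottPoly j (P.aug x).toNat)
  simp only [RingHom.toIntAlgHom_apply] at this
  rw [this]
  congr 2
  funext i
  exact hf _ x

end extmaps

section splitting

variable {K : Type u} [CommRing K] [LambdaOps K]

/-- Unpacked form of the splitting property for one positive element. -/
theorem exists_splitting (P : PosStructure K) (hK : HasSplitting K P) (e : K) (he : e ∈ P.pos) :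
    ∃ (L : Type u) (_ : CommRing L) (_ : LambdaOps L) (P' : PosStructure L) (f : K →+* L),
      IsExtension P P' f ∧ HasSplitting L P' ∧
      ∃ s : Multiset L, (∀ u ∈ s, P'.IsLine u) ∧ s.sum = f e := by
  obtain ⟨C, hKC, hC⟩ := hK
  obtain ⟨L', hL', f, hf, s, hs, hsum⟩ := hC ⟨K, P⟩ hKC e he
  exact ⟨L'.carrier, L'.commRing, L'.lambdaOps, L'.posStr, f, hf, ⟨C, hL', hC⟩, s, hs, hsum⟩

end splitting

end Groth.Agent.H11Lam
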