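import Groth.Agent.Lib.Helper50.LimDesc3
import Groth.Agent.Lib.Helper7.QuasiAffine

/-!
# Descent of quasi-affineness through cofiltered limits (EGA IV 8.10.5 (ix))

Adaptation of `Helper50/LimDesc3` (descent of affineness) to quasi-affine morphisms
(`Mor2.IsQuasiAffine`), using Mathlib's `Scheme.exists_isQuasiAffine_of_isLimit` and the
target-locality of quasi-affine morphisms from `Helper7/QuasiAffine`.
-/

set_option autoImplicit false
universe u
open CategoryTheory AlgebraicGeometry Limits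

namespace Groth.Agent.Lib.Helper11.LimQAff

open Groth.Agent.Lib.Helper50 Groth.Agent.Lib.Helper7.QA

section QAffOpen

variable {I : Type u} [SmallCategory I] [IsCofiltered I]
    (D : I ⥤ Scheme.{u}) (c : Limits.Cone D) (hc : Limits.IsLimit c)
    [∀ (i j : I) (f : i ⟶ j), IsAffineHom (D.map f)]

include hc in
/-- If the preimage in the limit of a compact open `U` of a (quasi-separated) stage is
quasi-affine, then eventually the preimage of `U` is quasi-affine. -/
lemma exists_forall_isQuasiAffine_map_preimage (i₀ : I) [QuasiSeparatedSpace (D.obj i₀)]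
    {U : (D.obj i₀).Opens} (hU : IsCompact (U : Set (D.obj i₀)))
    (hUc : (c.π.app i₀ ⁻¹ᵁ U : Scheme.{u}).IsQuasiAffine) :
    ∃ (j : I) (f : j ⟶ i₀), ∀ (k : I) (g : k ⟶ j) (g' : k ⟶ i₀), g ≫ f = g' →
      (D.map g' ⁻¹ᵁ U : Scheme.{u}).IsQuasiAffine := by
  have h1 (j : Over i₀) : CompactSpace ((opensDiagram D i₀ U).obj j) :=
    isCompact_iff_compactSpace.mp (QuasiCompact.isCompact_preimage _ U.2 hU)
  have h2 (j : Over i₀) : QuasiSeparatedSpace ((opensDiagram D i₀ U).obj j) :=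
    have := quasiSeparatedSpace_of_quasiSeparated (D.map j.hom)
    (isQuasiSeparated_iff_quasiSeparatedSpace _ (D.map _ ⁻¹ᵁ _).2).mp
      (.of_quasiSeparatedSpace _)
  have h3 : (opensCone D c i₀ U).pt.IsQuasiAffine := hUc
  obtain ⟨j, hj⟩ := Scheme.exists_isQuasiAffine_of_isLimit _ _ (isLimitOpensCone D c hc i₀ U)
  refine ⟨j.left, j.hom, fun k g g' hg ↦ ?_⟩
  subst hg
  have hj' : (D.map j.hom ⁻¹ᵁ U : Scheme.{u}).IsQuasiAffine := hj
  -- the restriction of `D.map g` to the preimages is affine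
  have : IsAffineHom (D.map g ∣_ (D.map j.hom ⁻¹ᵁ U)) := by
    have := MorphismProperty.of_isPullback (P := @IsAffineHom)
      (isPullback_morphismRestrict (D.map g) (D.map j.hom ⁻¹ᵁ U)).flip inferInstance
    exact this
  have h4 : (D.map g ⁻¹ᵁ (D.map j.hom ⁻¹ᵁ U) : Scheme.{u}).IsQuasiAffine :=
    Scheme.IsQuasiAffine.of_isAffineHom (D.map g ∣_ (D.map j.hom ⁻¹ᵁ U))
  have e : D.map (g ≫ j.hom) ⁻¹ᵁ U = D.map g ⁻¹ᵁ (D.map j.hom ⁻¹ᵁ U) := by
    rw [Functor.map_comp, Scheme.Hom.comp_preimage]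
  rw [e]
  exact h4

end QAffOpen

section NatTrans

variable {J : Type u} [SmallCategory J] [IsCofiltered J] {F E : J ⥤ Scheme.{u}} (τ : F ⟶ E)
    [∀ (i j : J) (f : i ⟶ j), IsAffineHom (F.map f)]
    [∀ (i j : J) (f : i ⟶ j), IsAffineHom (E.map f)]
    (cF : Cone F) (hcF : IsLimit cF) (cE : Cone E) (hcE : IsLimit cE)
    (f : cF.pt ⟶ cE.pt) (hf : ∀ j, cF.π.app j ≫ τ.app j = f ≫ cE.π.app j)

include hcF hcE hf in
/-- **Descent of quasi-affineness**. If the limit of a natural transformation between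
cofiltered systems of qcqs schemes with affine transition maps is quasi-affine, then eventually the
components are quasi-affine. -/
theorem exists_forall_isQuasiAffine_app
    [∀ j, CompactSpace (E.obj j)] [∀ j, QuasiSeparatedSpace (E.obj j)]
    [∀ j, CompactSpace (F.obj j)] [∀ j, QuasiSeparatedSpace (F.obj j)]
    (hqa : Mor2.IsQuasiAffine f) (j₀ : J) :
    ∃ (j : J) (_ : j ⟶ j₀), ∀ (k : J) (_ : k ⟶ j), Mor2.IsQuasiAffine (τ.app k) := by
  have hπ := isAffineHom_π_app E cE hcE j₀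
  obtain ⟨j, φ, hj⟩ := eventually_finite (ι := (E.obj j₀).affineCover.finiteSubcover.I₀)
    (fun a k g' ↦ (τ.app k ⁻¹ᵁ
      (E.map g' ⁻¹ᵁ ((E.obj j₀).affineCover.finiteSubcover.f a).opensRange) :
        Scheme.{u}).IsQuasiAffine)
    (fun a ↦ by
      have hV : IsAffineOpen ((E.obj j₀).affineCover.finiteSubcover.f a).opensRange :=
        isAffineOpen_opensRange _
      have h1 : IsCompact (τ.app j₀ ⁻¹ᵁ ((E.obj j₀).affineCover.finiteSubcover.f a).opensRange :
          Set (F.obj j₀)) :=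
        QuasiCompact.isCompact_preimage (f := τ.app j₀) _ (TopologicalSpace.Opens.isOpen _) hV.isCompact
      have h2 : (cF.π.app j₀ ⁻¹ᵁ
          (τ.app j₀ ⁻¹ᵁ ((E.obj j₀).affineCover.finiteSubcover.f a).opensRange) :
            Scheme.{u}).IsQuasiAffine := by
        have e : cF.π.app j₀ ⁻¹ᵁ
            (τ.app j₀ ⁻¹ᵁ ((E.obj j₀).affineCover.finiteSubcover.f a).opensRange) =
            f ⁻¹ᵁ (cE.π.app j₀ ⁻¹ᵁ ((E.obj j₀).affineCover.finiteSubcover.f a).opensRange) := by
          rw [← Scheme.Hom.comp_preimage, hf, Scheme.Hom.comp_preimage]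
        rw [e]
        exact hqa.2 _ (hV.preimage (cE.π.app j₀))
      obtain ⟨j, φ, hj⟩ := exists_forall_isQuasiAffine_map_preimage F cF hcF j₀ h1 h2
      refine ⟨j, φ, fun k g g' hg ↦ ?_⟩
      rw [← map_preimage_app_preimage]
      exact hj k g g' hg)
  refine ⟨j, φ, fun k g ↦ ?_⟩
  change QAffHom (τ.app k)
  refine (HasAffineProperty.iff_of_iSup_eq_top (P := QAffHom.{u}) (Q := qaff.{u})
    (ι := (E.obj j₀).affineCover.finiteSubcover.I₀)
    (fun a ↦ ⟨E.map (g ≫ φ) ⁻¹ᵁ ((E.obj j₀).affineCover.finiteSubcover.f a).opensRange,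
      (isAffineOpen_opensRange _).preimage _⟩) ?_).mpr fun a ↦ ?_
  · rw [← top_le_iff]
    intro y _
    obtain ⟨a, z, hz⟩ := (E.obj j₀).affineCover.finiteSubcover.exists_eq ((E.map (g ≫ φ)) y)
    exact TopologicalSpace.Opens.mem_iSup.mpr ⟨a, ⟨z, hz⟩⟩
  · exact hj k g (g ≫ φ) rfl a

end NatTrans

end Groth.Agent.Lib.Helper11.LimQAff
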