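import Mathlib
import Groth.Agent.Lib.Helper6.ThickIsAffine
import Groth.Prelude.Def_FSch5

open AlgebraicGeometry CategoryTheory Limits TopologicalSpace Opposite

universe u

namespace Groth.Agent.Lib.Helper11.OshSections

/-- sequential limit in types: projections are surjective if transition maps are. -/
theorem surj_of_seq {F : ℕᵒᵖ ⥤ Type u} {c : Cone F} (hc : IsLimit c)
    (hF : ∀ n, Function.Surjective (F.map (homOfLE (Nat.le_succ n)).op)) (i : ℕ) :
    Function.Surjective (c.π.app (op i)) := by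
  intro a
  -- build T k ∈ F (i + k)
  let T : ∀ k : ℕ, F.obj (op (i + k)) := fun k =>
    Nat.rec (motive := fun k => F.obj (op (i + k))) a (fun k t => (hF (i + k) t).choose) k
  have hT : ∀ k, F.map (homOfLE (Nat.le_succ (i + k))).op (T (k + 1)) = T k := fun k =>
    (hF (i + k) (T k)).choose_spec
  have hT2 : ∀ k k' (h : k ≤ k'), F.map (homOfLE (Nat.add_le_add_left h i)).op (T k') = T k := by
    intro k k' h
    induction k', h using Nat.le_induction with
    | base => 
      have : (homOfLE (Nat.add_le_add_left (le_refl k) i)).op = 𝟙 (op (i + k)) := rfl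
      rw [this, F.map_id]; rfl
    | succ k' h ih =>
      rw [← ih, ← hT k']
      rw [← FunctorToTypes.map_comp_apply]
      rfl
  let σ : F.sections := ⟨fun n => F.map (homOfLE (Nat.le_add_left n.unop i)).op (T n.unop), by
    intro m n f
    have hnm : n.unop ≤ m.unop := leOfHom f.unop
    dsimp only
    rw [← hT2 _ _ hnm, ← FunctorToTypes.map_comp_apply, ← FunctorToTypes.map_comp_apply]
    rfl⟩
  refine ⟨(Types.isLimitEquivSections hc).symm σ, ?_⟩
  rw [Types.isLimitEquivSections_symm_apply]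
  change F.map _ (T i) = a
  exact hT2 0 i (Nat.zero_le i)

end Groth.Agent.Lib.Helper11.OshSections

namespace Groth.Agent.Lib.Helper11.OshSections

open FSch

theorem lvU_affine (𝔛 : FSch.Sys.{u}) (h : 𝔛.IsFormal) (n : ℕ) (U : (𝔛.X 0).Opens)
    (hU : IsAffineOpen U) : IsAffineOpen (𝔛.lvU h n U) := by
  haveI := FSch.Sys.toX_isClosedImmersion 𝔛 h n
  refine Groth.Agent.Lib.Helper6.ThickIsAffine.isAffineOpen_of_thickening (t := 𝔛.toX n)
    (FSch.Sys.toX_surjective 𝔛 h n) _ ?_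
  have : (𝔛.toX n) ⁻¹ᵁ (𝔛.lvU h n U) = U := by
    change (Opens.map ((𝔛.toX n).base ≫ 𝔛.gInv h n)).obj U = U
    rw [FSch.Sys.toX_base_gInv]
    rfl
  rw [this]; exact hU

theorem levelMap_surj (𝔛 : FSch.Sys.{u}) (h : 𝔛.IsFormal) (n : ℕ) (U : (𝔛.X 0).Opens)
    (hU : IsAffineOpen U) : Function.Surjective ((𝔛.levelMap h n).hom.app (op U)) := by
  haveI := (h n).1
  rw [FSch.Sys.levelMap_app, Scheme.Hom.appLE]
  have h1 := (𝔛.ι n).app_surjective _ (lvU_affine 𝔛 h (n + 1) U hU)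
  have h2 : Function.Bijective ((𝔛.X n).presheaf.map
      (homOfLE (𝔛.lvU_le h n U)).op) := by
    have : IsIso ((𝔛.X n).presheaf.map (homOfLE (𝔛.lvU_le h n U)).op) := by
      have e : (𝔛.ι n) ⁻¹ᵁ (𝔛.lvU h (n + 1) U) = 𝔛.lvU h n U := 𝔛.lvU_succ h n U
      have : IsIso (homOfLE (𝔛.lvU_le h n U)) := ⟨homOfLE e.le, rfl, rfl⟩
      infer_instance
    exact ConcreteCategory.bijective_of_isIso _
  change Function.Surjective (((𝔛.ι n).app (𝔛.lvU h (n + 1) U) ≫ (𝔛.X n).presheaf.map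
      (homOfLE (𝔛.lvU_le h n U)).op : _ ⟶ _))
  intro y
  obtain ⟨z, rfl⟩ := h2.surjective y
  obtain ⟨w, rfl⟩ := h1 z
  exact ⟨w, rfl⟩

/-- The sections functor at `U` from sheaves of rings to types. -/
noncomputable abbrev secFun (𝔛 : FSch.Sys.{u}) (U : (𝔛.X 0).Opens) :
    Sheaf (Opens.grothendieckTopology (𝔛.X 0)) CommRingCat.{u} ⥤ Type u :=
  sheafToPresheaf _ _ ⋙ (evaluation _ _).obj (op U) ⋙ forget CommRingCat

/-- Sections of `O_𝔛` over `U` are the limit of the sections of the levels. -/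
noncomputable def secIsLimit (𝔛 : FSch.Sys.{u}) (h : 𝔛.IsFormal) (U : (𝔛.X 0).Opens) :
    IsLimit ((secFun 𝔛 U).mapCone (limit.cone (𝔛.levelRing h))) :=
  isLimitOfPreserves (secFun 𝔛 U) (limit.isLimit _)

theorem OshProj_surjective (𝔛 : FSch.Sys.{u}) (h : 𝔛.IsFormal)
    (i : ℕ) (U : (𝔛.X 0).Opens) (hU : IsAffineOpen U) :
    Function.Surjective ((𝔛.OshProj h i).hom.app (op U)) := by
  refine surj_of_seq (secIsLimit 𝔛 h U) ?_ i
  intro n
  have : (𝔛.levelRing h).map (homOfLE (Nat.le_succ n)).op = 𝔛.levelMap h n :=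
    FSch.Sys.levelRing_map_succ 𝔛 h n
  change Function.Surjective (((𝔛.levelRing h).map (homOfLE (Nat.le_succ n)).op).hom.app (op U))
  rw [this]
  exact levelMap_surj 𝔛 h n U hU

end Groth.Agent.Lib.Helper11.OshSections
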