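import Mathlib.CategoryTheory.Localization.CalculusOfFractions
import Mathlib.CategoryTheory.ObjectProperty.FullSubcategory

/-!
# Localization of a full subcategory closed under sources of `W` (helper11)

If `W` has a calculus of right fractions on `C`, `P` is a property of objects such that the source of
every `W`-morphism with target in `P` is in `P`, then the localization of `P.FullSubcategory` at
`W ∩ P` maps fully faithfully to any target `D` of a functor `F : C ⥤ D` inverting `W` which is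
"full and faithful on right fractions".
-/

set_option autoImplicit false
universe v₁ v₂ v₃ u₁ u₂ u₃

open CategoryTheory

namespace Groth.Agent.Lib.Helper11.SubLoc

variable {C : Type u₁} [Category.{v₁} C] (W : MorphismProperty C) (P : ObjectProperty C)

/-- the morphisms of the full subcategory lying in `W`. -/
abbrev WP : MorphismProperty P.FullSubcategory := W.inverseImage P.ι

variable {W P}

theorem hasRight [W.HasRightCalculusOfFractions]
    (hP : ∀ ⦃X' X : C⦄ (s : X' ⟶ X), W s → P X → P X') :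
    (WP W P).HasRightCalculusOfFractions where
  exists_rightFraction X Y φ := by
    let φ₀ : W.LeftFraction X.obj Y.obj := ⟨φ.f.hom, φ.s.hom, φ.hs⟩
    obtain ⟨ψ₀, h⟩ := φ₀.exists_rightFraction
    have h' : ψ₀.s ≫ φ.f.hom = ψ₀.f ≫ φ.s.hom := h
    refine ⟨⟨(ObjectProperty.homMk ψ₀.s : (⟨ψ₀.X', hP ψ₀.s ψ₀.hs X.property⟩ :
      P.FullSubcategory) ⟶ X), ψ₀.hs, ObjectProperty.homMk ψ₀.f⟩, ?_⟩
    ext
    exact h'
  ext X Y Y' f₁ f₂ s hs h := by
    obtain ⟨X', t, ht, fac⟩ := MorphismProperty.HasRightCalculusOfFractions.ext f₁.hom f₂.hom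
      s.hom hs (congrArg InducedCategory.Hom.hom h)
    exact ⟨⟨X', hP t ht X.property⟩, ObjectProperty.homMk t, ht, by ext; exact fac⟩

/-- the underlying fraction in `C`. -/
def img {X Y : P.FullSubcategory} (z : (WP W P).RightFraction X Y) :
    W.RightFraction X.obj Y.obj :=
  ⟨z.s.hom, z.hs, z.f.hom⟩

variable {D : Type u₂} [Category.{v₂} D] (F : C ⥤ D) (hF : W.IsInvertedBy F)
variable {E : Type u₃} [Category.{v₃} E] (L' : P.FullSubcategory ⥤ E)
  [L'.IsLocalization (WP W P)]
  (Φ : E ⥤ D) (e : L' ⋙ Φ ≅ P.ι ⋙ F)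

lemma map_fraction {X Y : P.FullSubcategory} (z : (WP W P).RightFraction X Y) :
    Φ.map (z.map L' (Localization.inverts L' (WP W P))) =
      e.hom.app X ≫ (img z).map F hF ≫ e.inv.app Y := by
  have : IsIso (L'.map z.s) := Localization.inverts L' (WP W P) _ z.hs
  rw [← cancel_epi (Φ.map (L'.map z.s)), ← Φ.map_comp, z.map_s_comp_map]
  have n1 : Φ.map (L'.map z.s) ≫ e.hom.app X = e.hom.app z.X' ≫ (P.ι ⋙ F).map z.s :=
    e.hom.naturality z.s
  have n2 : Φ.map (L'.map z.f) ≫ e.hom.app Y = e.hom.app z.X' ≫ (P.ι ⋙ F).map z.f :=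
    e.hom.naturality z.f
  have key : (P.ι ⋙ F).map z.s ≫ (img z).map F hF = (P.ι ⋙ F).map z.f :=
    (img z).map_s_comp_map F hF
  rw [reassoc_of% n1, reassoc_of% key, ← reassoc_of% n2, Iso.hom_inv_id_app]
  exact (Category.comp_id _).symm

include e in
theorem full_faithful [W.HasRightCalculusOfFractions]
    (hP : ∀ ⦃X' X : C⦄ (s : X' ⟶ X), W s → P X → P X')
    (hfaith : ∀ {X Y : C} (z₁ z₂ : W.RightFraction X Y), z₁.map F hF = z₂.map F hF →
      MorphismProperty.RightFractionRel z₁ z₂)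
    (hfull : ∀ {X Y : C} (ψ : F.obj X ⟶ F.obj Y), ∃ z : W.RightFraction X Y, ψ = z.map F hF) :
    Φ.Full ∧ Φ.Faithful := by
  have hcalc : (WP W P).HasRightCalculusOfFractions := hasRight hP
  have hL' : L'.EssSurj := Localization.essSurj L' (WP W P)
  constructor
  · refine ⟨fun {A B} ψ => ?_⟩
    let a : L'.obj (L'.objPreimage A) ≅ A := L'.objObjPreimageIso A
    let b : L'.obj (L'.objPreimage B) ≅ B := L'.objObjPreimageIso B
    obtain ⟨z, hz⟩ := hfull
      (e.inv.app _ ≫ Φ.map a.hom ≫ ψ ≫ Φ.map b.inv ≫ e.hom.app _)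
    let z' : (WP W P).RightFraction (L'.objPreimage A) (L'.objPreimage B) :=
      ⟨(ObjectProperty.homMk z.s : (⟨z.X', hP z.s z.hs (L'.objPreimage A).property⟩ :
        P.FullSubcategory) ⟶ L'.objPreimage A), z.hs, ObjectProperty.homMk z.f⟩
    have hz' : img z' = z := rfl
    refine ⟨a.inv ≫ z'.map L' (Localization.inverts L' (WP W P)) ≫ b.hom, ?_⟩
    rw [Φ.map_comp, Φ.map_comp, map_fraction F hF L' Φ e, hz', ← hz]
    simp [← Functor.map_comp_assoc, ← Functor.map_comp]
  · refine ⟨fun {A B} m₁ m₂ h => ?_⟩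
    let a : L'.obj (L'.objPreimage A) ≅ A := L'.objObjPreimageIso A
    let b : L'.obj (L'.objPreimage B) ≅ B := L'.objObjPreimageIso B
    obtain ⟨z₁, hz₁⟩ := Localization.exists_rightFraction L' (WP W P) (a.hom ≫ m₁ ≫ b.inv)
    obtain ⟨z₂, hz₂⟩ := Localization.exists_rightFraction L' (WP W P) (a.hom ≫ m₂ ≫ b.inv)
    have h' : Φ.map (a.hom ≫ m₁ ≫ b.inv) = Φ.map (a.hom ≫ m₂ ≫ b.inv) := by
      simp only [Functor.map_comp, h]
    rw [hz₁, hz₂, map_fraction F hF L' Φ e, map_fraction F hF L' Φ e] at h'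
    have h'' : (img z₁).map F hF = (img z₂).map F hF := by
      have := congrArg (fun k => e.inv.app _ ≫ k ≫ e.hom.app _) h'
      simpa using this
    obtain ⟨Z, t₁, t₂, hst, hft, ht⟩ := hfaith _ _ h''
    have hrel : MorphismProperty.RightFractionRel z₁ z₂ := by
      refine ⟨⟨Z, hP _ ht (L'.objPreimage A).property⟩, ObjectProperty.homMk t₁,
        ObjectProperty.homMk t₂, ?_, ?_, ?_⟩
      · ext
        exact hst
      · ext
        exact hft
      · exact ht
    have heq : a.hom ≫ m₁ ≫ b.inv = a.hom ≫ m₂ ≫ b.inv := by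
      rw [hz₁, hz₂]
      exact (MorphismProperty.RightFraction.map_eq_iff L' (WP W P) z₁ z₂).2 hrel
    have := congrArg (fun k => a.inv ≫ k ≫ b.hom) heq
    simpa using this

end Groth.Agent.Lib.Helper11.SubLoc
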