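import Mathlib

/-!
# Schemes of dimension ≤ 0

Trivial specialization order, compact opens of affine pieces are closed, affine opens are clopen.
-/

set_option autoImplicit false
universe u
open CategoryTheory AlgebraicGeometry TopologicalSpace Topology

namespace Groth.Agent.Lib.Helper11.ZeroDim

/-- In a `T0` space of Krull dimension `≤ 0` the specialization order is trivial. -/
theorem eq_of_specializes {X : Type*} [TopologicalSpace X] [T0Space X]
    (h : topologicalKrullDim X ≤ 0) {x y : X} (hxy : x ⤳ y) : x = y := by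
  by_contra hne
  have hmax := Order.krullDim_nonpos_iff_forall_isMax.mp h
  let cx : IrreducibleCloseds X := ⟨closure {x}, isIrreducible_singleton.closure, isClosed_closure⟩
  let cy : IrreducibleCloseds X := ⟨closure {y}, isIrreducible_singleton.closure, isClosed_closure⟩
  have hle : cy ≤ cx := by
    change closure {y} ⊆ closure {x}
    exact closure_minimal (Set.singleton_subset_iff.mpr (specializes_iff_mem_closure.mp hxy))
      isClosed_closure
  have hle' : cx ≤ cy := hmax cy hle
  have hyx : y ⤳ x := by
    rw [specializes_iff_mem_closure]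
    exact hle' (subset_closure rfl)
  exact hne ((hxy.antisymm hyx).eq)

theorem t1Space_of_dim_le_zero {X : Type*} [TopologicalSpace X] [T0Space X]
    (h : topologicalKrullDim X ≤ 0) : T1Space X :=
  t1Space_iff_specializes_imp_eq.2 fun _ _ hxy => eq_of_specializes h hxy

/-- In the prime spectrum of a ring with trivial specialization order, compact opens are closed. -/
theorem isClosed_of_isCompact_isOpen_primeSpectrum {R : Type u} [CommRing R]
    [T1Space (PrimeSpectrum R)] {s : Set (PrimeSpectrum R)}
    (hc : IsCompact s) (ho : IsOpen s) : IsClosed s := by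
  obtain ⟨t, rfl⟩ := PrimeSpectrum.isCompact_isOpen_iff.mp ⟨hc, ho⟩
  have hb : ∀ f : R, IsClosed (PrimeSpectrum.basicOpen f : Set (PrimeSpectrum R)) := by
    intro f
    rw [← PrimeSpectrum.localization_away_comap_range (Localization.Away f) f]
    apply PrimeSpectrum.isClosed_range_of_stableUnderSpecialization
    intro x y hxy hx
    rwa [← (t1Space_iff_specializes_imp_eq.1 inferInstance hxy)]
  have : (PrimeSpectrum.zeroLocus (t : Set R))ᶜ =
      ⋃ f ∈ t, (PrimeSpectrum.basicOpen f : Set (PrimeSpectrum R)) := by
    ext x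
    simp [PrimeSpectrum.mem_zeroLocus, Set.not_subset]
  rw [this]
  exact t.finite_toSet.isClosed_biUnion fun f _ => hb f

variable {X : Scheme.{u}}

/-- compact open subsets of an affine scheme with `T1` underlying space are closed -/
theorem isClosed_of_isCompact_isOpen_of_isAffine [IsAffine X] [T1Space X] {s : Set X}
    (hc : IsCompact s) (ho : IsOpen s) : IsClosed s := by
  let e : X ≃ₜ PrimeSpectrum Γ(X, ⊤) := Scheme.homeoOfIso X.isoSpec
  have : T1Space (PrimeSpectrum Γ(X, ⊤)) := e.symm.isEmbedding.t1Space
  have h1 : IsClosed (e '' s) :=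
    isClosed_of_isCompact_isOpen_primeSpectrum (hc.image e.continuous) (e.isOpenMap s ho)
  have h2 : s = e ⁻¹' (e '' s) := (Set.preimage_image_eq s e.injective).symm
  rw [h2]
  exact h1.preimage e.continuous

/-- in a quasi-separated scheme with `T1` underlying space, affine opens are closed -/
theorem isClosed_of_isAffineOpen [QuasiSeparatedSpace X] [T1Space X] {U : X.Opens}
    (hU : IsAffineOpen U) : IsClosed (U : Set X) := by
  rw [← isOpen_compl_iff, isOpen_iff_mem_nhds]
  intro y hy
  obtain ⟨_, ⟨V, hV, rfl⟩, hyV, -⟩ := X.isBasis_affineOpens.exists_subset_of_mem_open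
    (Set.mem_univ y) isOpen_univ
  have : IsAffine (V : Scheme) := hV
  let s : Set {x : X // x ∈ V} := Subtype.val ⁻¹' (U : Set X)
  have hso : IsOpen s := U.2.preimage continuous_subtype_val
  have hsc : IsCompact s := by
    rw [Subtype.isCompact_iff]
    have e : (Subtype.val '' s : Set X) = (V : Set X) ∩ (U : Set X) := by
      ext z
      constructor
      · rintro ⟨⟨w, hw⟩, hwU, rfl⟩
        exact ⟨hw, hwU⟩
      · rintro ⟨hzV, hzU⟩
        exact ⟨⟨z, hzV⟩, hzU, rfl⟩
    rw [e]
    exact QuasiSeparatedSpace.inter_isCompact (V : Set X) (U : Set X) V.2 hV.isCompact U.2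
      hU.isCompact
  have hT1 : T1Space {x : X // x ∈ V} := Topology.IsEmbedding.subtypeVal.t1Space
  have hT1' : T1Space (V : Scheme) := hT1
  have hcl : IsClosed s :=
    isClosed_of_isCompact_isOpen_of_isAffine (X := (V : Scheme)) (s := s) hsc hso
  have hopen : IsOpen (Subtype.val '' sᶜ : Set X) :=
    V.2.isOpenEmbedding_subtypeVal.isOpenMap _ hcl.isOpen_compl
  refine Filter.mem_of_superset (hopen.mem_nhds ⟨⟨y, hyV⟩, hy, rfl⟩) ?_
  rintro _ ⟨z, hz, rfl⟩
  exact hz

/-- in a quasi-separated scheme with `T1` underlying space, affine opens are clopen -/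
theorem isClopen_of_isAffineOpen [QuasiSeparatedSpace X] [T1Space X] {U : X.Opens}
    (hU : IsAffineOpen U) : IsClopen (U : Set X) :=
  ⟨isClosed_of_isAffineOpen hU, U.2⟩

/-- a quasi-separated scheme with `T1` underlying space is totally separated -/
theorem totallySeparatedSpace_of_t1 [QuasiSeparatedSpace X] [T1Space X] :
    TotallySeparatedSpace X := by
  rw [totallySeparatedSpace_iff_exists_isClopen]
  intro x y hxy
  obtain ⟨_, ⟨U, hU, rfl⟩, hyU, -⟩ := X.isBasis_affineOpens.exists_subset_of_mem_open
    (Set.mem_univ y) isOpen_univ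
  let W : X.Opens := ⟨{x}ᶜ, isOpen_compl_singleton⟩
  have hyW : y ∈ W := fun h => hxy (Set.mem_singleton_iff.mp h).symm
  obtain ⟨f, hfW, hyf⟩ := IsAffineOpen.exists_basicOpen_le hU (V := W) ⟨y, hyW⟩ hyU
  have hcl : IsClopen (X.basicOpen f : Set X) := isClopen_of_isAffineOpen (hU.basicOpen f)
  refine ⟨(X.basicOpen f : Set X)ᶜ, hcl.compl, ?_, ?_⟩
  · intro hx
    exact hfW hx rfl
  · rw [compl_compl]
    exact hyf

/-- an open subset of an affine open which is closed is affine (a basic open of an idempotent) -/
theorem isAffineOpen_of_isClosed_of_le {U W : X.Opens} (hU : IsAffineOpen U) (hWU : W ≤ U)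
    (hW : IsClosed (W : Set X)) : IsAffineOpen W := by
  have hcl : IsClopen (hU.fromSpec ⁻¹' (W : Set X)) :=
    ⟨hW.preimage hU.fromSpec.continuous, W.2.preimage hU.fromSpec.continuous⟩
  obtain ⟨e, -, he⟩ := PrimeSpectrum.isClopen_iff.mp hcl
  have hWe : W = X.basicOpen e := by
    ext1
    have h1 : (X.basicOpen e : Set X) =
        hU.fromSpec '' ((PrimeSpectrum.basicOpen e : Opens (PrimeSpectrum Γ(X, U))) :
          Set (PrimeSpectrum Γ(X, U))) :=
      (congrArg (fun O : X.Opens => (O : Set X)) (hU.fromSpec_image_basicOpen e)).symm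
    rw [h1, ← he, Set.image_preimage_eq_inter_range, hU.range_fromSpec]
    exact (Set.inter_eq_left.mpr hWU).symm
  rw [hWe]
  exact hU.basicOpen e

/-- in a quasi-separated scheme with `T1` underlying space, quasi-compact opens are affine -/
theorem isAffineOpen_of_isCompact [QuasiSeparatedSpace X] [T1Space X] (U : X.Opens)
    (hU : IsCompact (U : Set X)) : IsAffineOpen U := by
  refine compact_open_induction_on (P := fun U => IsAffineOpen U) U hU (isAffineOpen_bot X) ?_
  · intro S _ V hS
    have hScl : IsClosed (S : Set X) := isClosed_of_isAffineOpen hS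
    let W : X.Opens := ⟨(V : Set X) ∩ (S : Set X)ᶜ, V.1.2.inter hScl.isOpen_compl⟩
    have hVcl : IsClosed ((V : X.Opens) : Set X) := isClosed_of_isAffineOpen V.2
    have hW : IsAffineOpen W := by
      refine isAffineOpen_of_isClosed_of_le V.2 (fun x hx => hx.1) ?_
      exact hVcl.inter S.2.isClosed_compl
    have hdisj : Disjoint S W := by
      rw [← Opens.coe_disjoint]
      exact Set.disjoint_left.mpr fun x hxS hxW => hxW.2 hxS
    have e : S ⊔ (V : X.Opens) = S ⊔ W := by
      ext x
      simp only [Opens.coe_sup, Set.mem_union, SetLike.mem_coe]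
      constructor
      · rintro (h | h)
        · exact Or.inl h
        · by_cases hxS : x ∈ S
          · exact Or.inl hxS
          · exact Or.inr ⟨h, hxS⟩
      · rintro (h | h)
        · exact Or.inl h
        · exact Or.inr h.1
    rw [e]
    exact hS.sup_of_disjoint hW hdisj

/-- Two morphisms from the spectrum of a domain to a scheme with `T1` underlying space agree as
soon as they agree on the generic point `Spec K`. -/
theorem hom_ext_of_fractionRing [T1Space X] {R K : Type u} [CommRing R] [IsDomain R] [Field K]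
    [Algebra R K] [IsFractionRing R K] (l l' : Spec (.of R) ⟶ X)
    (h : Spec.map (CommRingCat.ofHom (algebraMap R K)) ≫ l =
      Spec.map (CommRingCat.ofHom (algebraMap R K)) ≫ l') : l = l' := by
  -- the generic point
  let η : Spec (.of R) := (⊥ : PrimeSpectrum R)
  have hη : ∀ p : Spec (.of R), η ⤳ p := fun p =>
    (PrimeSpectrum.le_iff_specializes (⊥ : PrimeSpectrum R) p).mp bot_le
  have hconst : ∀ (m : Spec (.of R) ⟶ X) (p : Spec (.of R)), m p = m η := fun m p =>
    (t1Space_iff_specializes_imp_eq.1 inferInstance ((hη p).map m.continuous)).symm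
  -- the point of `Spec K`
  let pt : Spec (.of K) := (⊥ : PrimeSpectrum K)
  have hpt : Spec.map (CommRingCat.ofHom (algebraMap R K)) pt = η := by
    apply PrimeSpectrum.ext
    change Ideal.comap (algebraMap R K) ⊥ = ⊥
    rw [← RingHom.ker_eq_comap_bot, (RingHom.injective_iff_ker_eq_bot _).mp
      (IsFractionRing.injective R K)]
  have hη' : l η = l' η := by
    rw [← hpt]
    exact congrArg (fun m : Spec (.of K) ⟶ X => m pt) h
  -- an affine open neighbourhood of the common image
  obtain ⟨_, ⟨U₀, hU, rfl⟩, hxU, -⟩ := X.isBasis_affineOpens.exists_subset_of_mem_open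
    (Set.mem_univ (l η)) isOpen_univ
  obtain ⟨U, rfl⟩ : ∃ U : X.Opens, U = U₀ := ⟨U₀, rfl⟩
  have : IsAffine (U : Scheme) := hU
  have hr : Set.range l ⊆ Set.range U.ι := by
    rintro _ ⟨p, rfl⟩
    rw [Scheme.Opens.range_ι, hconst l p]
    exact hxU
  have hr' : Set.range l' ⊆ Set.range U.ι := by
    rintro _ ⟨p, rfl⟩
    rw [Scheme.Opens.range_ι, hconst l' p, ← hη']
    exact hxU
  rw [← IsOpenImmersion.lift_fac U.ι l hr, ← IsOpenImmersion.lift_fac U.ι l' hr']
  congr 1
  apply ext_of_isAffine
  have h2 : Spec.map (CommRingCat.ofHom (algebraMap R K)) ≫ IsOpenImmersion.lift U.ι l hr =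
      Spec.map (CommRingCat.ofHom (algebraMap R K)) ≫ IsOpenImmersion.lift U.ι l' hr' := by
    rw [← cancel_mono U.ι, Category.assoc, Category.assoc, IsOpenImmersion.lift_fac,
      IsOpenImmersion.lift_fac, h]
  have h3 := congrArg Scheme.Hom.appTop h2
  rw [Scheme.Hom.comp_appTop, Scheme.Hom.comp_appTop] at h3
  have hmono : Mono (Spec.map (CommRingCat.ofHom (algebraMap R K))).appTop := by
    have e : (Spec.map (CommRingCat.ofHom (algebraMap R K))).appTop =
        (Scheme.ΓSpecIso (.of R)).hom ≫ CommRingCat.ofHom (algebraMap R K) ≫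
          (Scheme.ΓSpecIso (.of K)).inv := by
      rw [← Scheme.ΓSpecIso_naturality_assoc, Iso.hom_inv_id, Category.comp_id]
    rw [e]
    have : Mono (CommRingCat.ofHom (algebraMap R K)) :=
      ConcreteCategory.mono_of_injective _ (IsFractionRing.injective R K)
    infer_instance
  exact (cancel_mono _).mp h3

end Groth.Agent.Lib.Helper11.ZeroDim
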